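import Mathlib

set_option autoImplicit false

namespace Cfsg.Agent.Lib.Helper13

/-- conjugation relation propagates to integer powers -/
theorem zpow_conj_of_conj {N U : Type*} [Group N] [Group U] (f : N →* U) (c : MulAut N) (u : U)
    (h : ∀ n, u * f n * u⁻¹ = f (c n)) (z : ℤ) : ∀ n, u ^ z * f n * (u ^ z)⁻¹ = f ((c ^ z) n) := by
  induction z using Int.induction_on with
  | zero => intro n; simp
  | succ k ih =>
    intro n
    rw [zpow_add_one, zpow_add_one, MulAut.mul_apply, ← ih (c n), ← h n]
    group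
  | pred k ih =>
    intro n
    have h' : ∀ n, u⁻¹ * f n * u = f (c⁻¹ n) := by
      intro n
      have := h (c⁻¹ n)
      rw [MulAut.apply_inv_self] at this
      rw [← this]; group
    rw [zpow_sub_one, zpow_sub_one, MulAut.mul_apply, ← ih (c⁻¹ n), ← h' n]
    group

/-- Extension of a homomorphism from a normal subgroup with cyclic quotient. -/
theorem exists_hom_extension_of_cyclic {G U : Type*} [Group G] [Group U] (N : Subgroup G)
    [hN : N.Normal] (g₀ : G) (hgen : ∀ g : G, ∃ k : ℤ, g * g₀ ^ (-k) ∈ N) (f : N →* U) (u : U)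
    (hconj : ∀ n : N, u * f n * u⁻¹ = f (MulAut.conjNormal g₀ n))
    (hpow : ∀ (k : ℤ) (hk : g₀ ^ k ∈ N), u ^ k = f ⟨g₀ ^ k, hk⟩) :
    ∃ F : G →* U, ∀ n : N, F n = f n := by
  let c : MulAut N := MulAut.conjNormal g₀
  let φ : Multiplicative ℤ →* MulAut N := zpowersHom (MulAut N) c
  have hc : ∀ (z : ℤ) (n : N), (((c ^ z) n : N) : G) = g₀ ^ z * n * (g₀ ^ z)⁻¹ := by
    intro z n
    have : c ^ z = MulAut.conjNormal (g₀ ^ z) := (map_zpow (MulAut.conjNormal (H := N)) g₀ z).symm
    rw [this, MulAut.conjNormal_apply]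
  let R : N ⋊[φ] Multiplicative ℤ →* U := SemidirectProduct.lift f (zpowersHom U u) (by
    intro z
    ext n
    simp only [MonoidHom.comp_apply, MulEquiv.coe_toMonoidHom, MulAut.conj_apply, φ,
      zpowersHom_apply]
    exact (zpow_conj_of_conj f c u hconj _ n).symm)
  let π : N ⋊[φ] Multiplicative ℤ →* G := SemidirectProduct.lift N.subtype (zpowersHom G g₀) (by
    intro z
    ext n
    simp only [MonoidHom.comp_apply, MulEquiv.coe_toMonoidHom, MulAut.conj_apply, φ,
      zpowersHom_apply, Subgroup.coe_subtype]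
    exact hc _ n)
  have hπ : Function.Surjective π := by
    intro g
    obtain ⟨k, hk⟩ := hgen g
    refine ⟨SemidirectProduct.inl ⟨_, hk⟩ * SemidirectProduct.inr (Multiplicative.ofAdd k), ?_⟩
    rw [map_mul]
    simp only [π, SemidirectProduct.lift_inl, SemidirectProduct.lift_inr, zpowersHom_apply,
      Subgroup.coe_subtype, toAdd_ofAdd]
    group
  have hker : π.ker ≤ R.ker := by
    intro x hx
    rw [MonoidHom.mem_ker] at hx ⊢
    rw [← SemidirectProduct.inl_left_mul_inr_right x, map_mul] at hx ⊢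
    simp only [π, R, SemidirectProduct.lift_inl, SemidirectProduct.lift_inr, zpowersHom_apply,
      Subgroup.coe_subtype] at hx ⊢
    set k : ℤ := Multiplicative.toAdd x.right with hk
    have h1 : g₀ ^ k = ((x.left)⁻¹ : N) := by
      rw [Subgroup.coe_inv]
      exact eq_inv_of_mul_eq_one_right hx
    have h2 : g₀ ^ k ∈ N := by rw [h1]; exact (x.left⁻¹).2
    rw [hpow k h2, ← map_mul]
    have : x.left * ⟨g₀ ^ k, h2⟩ = 1 := by
      apply Subtype.ext
      exact hx
    rw [this, map_one]
  refine ⟨π.liftOfRightInverse (Function.surjInv hπ) (Function.rightInverse_surjInv hπ) ⟨R, hker⟩,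
    fun n => ?_⟩
  have h1 : π (SemidirectProduct.inl n) = n := by
    simp only [π, SemidirectProduct.lift_inl, Subgroup.coe_subtype]
  rw [← h1, MonoidHom.liftOfRightInverse_comp_apply]
  simp only [R, SemidirectProduct.lift_inl]

end Cfsg.Agent.Lib.Helper13
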