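import Mathlib
import Cfsg.Agent.Lib.Helper13.CyclicExt
import Cfsg.Agent.Lib.Helper13.Clifford3
import Cfsg.Agent.Lib.Helper2.Schur
import Cfsg.Agent.Lib.Helper2.Decomp
import Cfsg.Agent.Lib.Helper2.CharMore

set_option autoImplicit false
set_option linter.unusedSectionVars false

namespace Cfsg.Agent.Lib.Helper13

open Cfsg.Agent.Lib.Helper2 Cfsg.Agent.Lib.Lead
open scoped ComplexConjugate

/-- a character of degree zero vanishes -/
theorem IsCharacter.eq_zero_of_apply_one {G : Type*} [Group G] [Finite G] {χ : G → ℂ}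
    (hχ : Cfsg.IsCharacter G χ) (h : χ 1 = 0) : χ = 0 := by
  funext g
  obtain ⟨n, hn, hle⟩ := IsCharacter.norm_apply_le hχ g
  rw [h] at hn
  have : n = 0 := by exact_mod_cast hn.symm
  rw [this] at hle
  simpa using hle

/-- a character whose restriction to a subgroup is irreducible is irreducible -/
theorem isIrrCharacter_of_restrict {G : Type*} [Group G] [Fintype G] (N : Subgroup G) {χ : G → ℂ}
    (hχ : Cfsg.IsCharacter G χ) (hN : Cfsg.IsIrrCharacter N (fun n : N => χ n)) :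
    Cfsg.IsIrrCharacter G χ := by
  classical
  have h1 : χ 1 ≠ 0 := by
    have := Cfsg.Agent.Lib.Helper6.irr_one_ne_zero hN
    exact this
  obtain ⟨ψ, hψ⟩ := Cfsg.Agent.Lib.Helper24.exists_constituent hχ h1
  have hb := IsCharacter.sub_irr hχ ψ.2 hψ
  have ha' : Cfsg.IsCharacter N (fun n : N => (ψ : G → ℂ) n) :=
    IsCharacter.restrict N (IsIrrCharacter.isCharacter ψ.2)
  have hb' : Cfsg.IsCharacter N (fun n : N => (χ - (ψ : G → ℂ)) n) := IsCharacter.restrict N hb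
  set a : N → ℂ := fun n : N => (ψ : G → ℂ) n with ha
  set b : N → ℂ := fun n : N => (χ - (ψ : G → ℂ)) n with hbdef
  have hsum : (fun n : N => χ n) = a + b := by
    funext n; simp [a, b]
  have hnorm := classInner_irr hN hN
  rw [if_pos rfl, hsum, classInner_add_left, classInner_add_right, classInner_add_right] at hnorm
  obtain ⟨n1, e1⟩ := IsCharacter.classInner_nat ha' ha'
  obtain ⟨n2, e2⟩ := IsCharacter.classInner_nat ha' hb'
  obtain ⟨n3, e3⟩ := IsCharacter.classInner_nat hb' ha'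
  obtain ⟨n4, e4⟩ := IsCharacter.classInner_nat hb' hb'
  rw [e1, e2, e3, e4] at hnorm
  have hnat : n1 + n2 + (n3 + n4) = 1 := by exact_mod_cast hnorm
  have hn1 : n1 ≠ 0 := by
    intro h0
    rw [h0] at e1
    have := eq_zero_of_classInner_self_eq_zero a (by simpa using e1)
    have h2 := congrFun this 1
    exact Cfsg.Agent.Lib.Helper6.irr_one_ne_zero ψ.2 h2
  have hn4 : n4 = 0 := by omega
  rw [hn4] at e4
  have hb0 := eq_zero_of_classInner_self_eq_zero b (by simpa using e4)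
  have hb1 : (χ - (ψ : G → ℂ)) 1 = 0 := congrFun hb0 1
  have := IsCharacter.eq_zero_of_apply_one hb hb1
  rw [sub_eq_zero.mp this]
  exact ψ.2

/-- **Extension over a cyclic quotient.** -/
theorem exists_extension_of_cyclic_quotient {G : Type*} [Group G] [Finite G] (N : Subgroup G)
    [hN : N.Normal] (hcyc : IsCyclic (G ⧸ N)) {ϑ : N → ℂ} (hϑ : Cfsg.IsIrrCharacter N ϑ)
    (hinv : ∀ g : G, conjFun N g ϑ = ϑ) :
    ∃ χ : G → ℂ, Cfsg.IsIrrCharacter G χ ∧ ∀ n : N, χ n = ϑ n := by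
  classical
  cases nonempty_fintype G
  have hϑ' := hϑ
  obtain ⟨d, ρ, hρ, rfl⟩ := hϑ
  have := hρ
  obtain ⟨q, hq⟩ := hcyc.exists_generator
  obtain ⟨g₀, rfl⟩ := QuotientGroup.mk_surjective q
  let c : N ≃* N := MulAut.conjNormal g₀
  let ρ' : Representation ℂ N (Fin d → ℂ) := ρ.comp c.toMonoidHom
  have hchar : ρ'.character = ρ.character := by
    have h1 := hinv g₀⁻¹
    rw [conjFun_eq_comp, inv_inv] at h1
    exact h1
  obtain ⟨E⟩ := equiv_of_char_eq ρ ρ' hchar.symm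
  let ρu := ρ.asGroupHom
  let M₀ : (Module.End ℂ (Fin d → ℂ))ˣ := LinearMap.GeneralLinearGroup.ofLinearEquiv E.toLinearEquiv
  have hM₀ : ∀ n : N, M₀ * ρu n * M₀⁻¹ = ρu (c n) := by
    intro n
    rw [mul_inv_eq_iff_eq_mul]
    apply Units.ext
    exact E.isIntertwining' n
  set m := orderOf (g₀ : G ⧸ N) with hm
  have hmpos : 0 < m := orderOf_pos _
  have hgm : g₀ ^ m ∈ N := by
    rw [← QuotientGroup.eq_one_iff, QuotientGroup.mk_pow, hm, pow_orderOf_eq_one]
  let nm : N := ⟨g₀ ^ m, hgm⟩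
  have hcm : ∀ n : N, ((c : MulAut N) ^ (m : ℤ)) n = nm * n * nm⁻¹ := by
    intro n
    have h1 : (c : MulAut N) ^ (m : ℤ) = MulAut.conjNormal (g₀ ^ (m : ℤ)) :=
      (map_zpow (MulAut.conjNormal (H := N)) g₀ (m : ℤ)).symm
    rw [h1]
    apply Subtype.ext
    rw [MulAut.conjNormal_apply, zpow_natCast]
    rfl
  have hM₀m : ∀ n : N, M₀ ^ m * ρu n = ρu nm * ρu n * (ρu nm)⁻¹ * M₀ ^ m := by
    intro n
    have h1 := zpow_conj_of_conj ρu c M₀ hM₀ (m : ℤ) n
    rw [hcm, zpow_natCast, mul_inv_eq_iff_eq_mul, map_mul, map_mul, map_inv] at h1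
    exact h1
  set S : (Module.End ℂ (Fin d → ℂ))ˣ := (ρu nm)⁻¹ * M₀ ^ m with hS
  have hScomm : ∀ n : N, S * ρu n = ρu n * S := by
    intro n
    rw [hS, mul_assoc, hM₀m n]
    group
  have hschur := schur_scalar ρ (S : Module.End ℂ (Fin d → ℂ)) (by
    intro n
    have := congrArg Units.val (hScomm n)
    exact this)
  set s : ℂ := LinearMap.trace ℂ (Fin d → ℂ) (S : Module.End ℂ (Fin d → ℂ)) /
    (Module.finrank ℂ (Fin d → ℂ) : ℂ) with hs
  have hnontriv : Nontrivial (Fin d → ℂ) := nontrivial_of_isIrreducible ρ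
  have hs0 : s ≠ 0 := by
    intro h0
    rw [h0, zero_smul] at hschur
    exact S.ne_zero hschur
  obtain ⟨t, ht⟩ := IsAlgClosed.exists_pow_nat_eq s hmpos
  have ht0 : t ≠ 0 := by
    rintro rfl
    rw [zero_pow hmpos.ne'] at ht
    exact hs0 ht.symm
  let sc : ℂˣ →* (Module.End ℂ (Fin d → ℂ))ˣ :=
    Units.map (algebraMap ℂ (Module.End ℂ (Fin d → ℂ))).toMonoidHom
  have hsc : ∀ (a : ℂˣ) (x : (Module.End ℂ (Fin d → ℂ))ˣ), sc a * x = x * sc a := by
    intro a x
    apply Units.ext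
    exact Algebra.commutes (a : ℂ) (x : Module.End ℂ (Fin d → ℂ))
  have hSsc : S = sc (Units.mk0 s hs0) := by
    apply Units.ext
    rw [hschur]
    rfl
  let a : ℂˣ := (Units.mk0 t ht0)⁻¹
  have ham : a ^ m = (Units.mk0 s hs0)⁻¹ := by
    rw [inv_pow]
    congr 1
    apply Units.ext
    simpa using ht
  let u : (Module.End ℂ (Fin d → ℂ))ˣ := sc a * M₀
  have hu : ∀ n : N, u * ρu n * u⁻¹ = ρu (MulAut.conjNormal g₀ n) := by
    intro n
    have h1 := hM₀ n
    calc u * ρu n * u⁻¹ = sc a * (M₀ * ρu n * M₀⁻¹) * (sc a)⁻¹ := by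
          simp only [u, mul_inv_rev]; group
      _ = sc a * ρu (c n) * (sc a)⁻¹ := by rw [h1]
      _ = ρu (c n) := by rw [hsc, mul_inv_cancel_right]
  have hum : u ^ m = ρu nm := by
    have hcomm : Commute (sc a) M₀ := hsc a M₀
    have h1 : M₀ ^ m = ρu nm * S := by rw [hS]; group
    rw [hcomm.mul_pow, ← map_pow, ham, h1, hSsc, hsc, mul_assoc, ← map_mul, mul_inv_cancel,
      map_one, mul_one]
  have hpow : ∀ (k : ℤ) (hk : g₀ ^ k ∈ N), u ^ k = ρu ⟨g₀ ^ k, hk⟩ := by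
    intro k hk
    have h1 : (g₀ : G ⧸ N) ^ k = 1 := by
      rw [← QuotientGroup.mk_zpow]
      exact (QuotientGroup.eq_one_iff _).mpr hk
    obtain ⟨j, hj⟩ := (orderOf_dvd_iff_zpow_eq_one).mpr h1
    have h2 : u ^ k = ρu (nm ^ j) := by
      rw [hj, zpow_mul, zpow_natCast, map_zpow]
      exact congrArg (· ^ j) hum
    rw [h2]
    congr 1
    apply Subtype.ext
    rw [Subgroup.coe_zpow]
    show (g₀ ^ m) ^ j = g₀ ^ k
    rw [hj, zpow_mul, zpow_natCast]
  have hgen : ∀ g : G, ∃ k : ℤ, g * g₀ ^ (-k) ∈ N := by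
    intro g
    obtain ⟨k, hk⟩ := Subgroup.mem_zpowers_iff.mp (hq (g : G ⧸ N))
    refine ⟨k, ?_⟩
    rw [← QuotientGroup.eq_one_iff, QuotientGroup.mk_mul, QuotientGroup.mk_zpow, ← hk]
    group
  obtain ⟨F, hF⟩ := exists_hom_extension_of_cyclic N g₀ hgen ρu u hu hpow
  let ρh : Representation ℂ G (Fin d → ℂ) := (Units.coeHom _).comp F
  have hres : ∀ n : N, ρh.character n = ρ.character n := by
    intro n
    simp only [Representation.character, ρh, MonoidHom.comp_apply, hF n]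
    rfl
  refine ⟨ρh.character, ?_, hres⟩
  apply isIrrCharacter_of_restrict N (isCharacter_of_rep ρh)
  have : (fun n : N => ρh.character n) = ρ.character := funext hres
  rw [this]
  exact hϑ'

end Cfsg.Agent.Lib.Helper13
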