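import Mathlib
import Cfsg.Agent.Lib.Helper13.CyclicExt2
import Cfsg.Agent.Lib.Helper13.Gallagher
import Cfsg.Agent.Lib.Helper24.CharInt

set_option autoImplicit false
set_option linter.unusedSectionVars false

namespace Cfsg.Agent.Lib.Helper13

open Cfsg.Agent.Lib.Helper2 Cfsg.Agent.Lib.Lead
open scoped ComplexConjugate

section construction

variable {G : Type*} [Group G] (N : Subgroup G) [hN : N.Normal] {d : ℕ}
  (ρ : Representation ℂ N (Fin d → ℂ)) (m : ℕ)

/-- units of the endomorphism ring -/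
abbrev EndU (d : ℕ) := (Module.End ℂ (Fin d → ℂ))ˣ

noncomputable def detU (d : ℕ) : EndU d →* ℂˣ :=
  Units.map (LinearMap.det : Module.End ℂ (Fin d → ℂ) →* ℂ)

noncomputable def scU (d : ℕ) : ℂˣ →* EndU d :=
  Units.map (algebraMap ℂ (Module.End ℂ (Fin d → ℂ))).toMonoidHom

theorem scU_comm (a : ℂˣ) (x : EndU d) : scU d a * x = x * scU d a := by
  apply Units.ext
  exact Algebra.commutes (a : ℂ) (x : Module.End ℂ (Fin d → ℂ))

theorem detU_scU (a : ℂˣ) : detU d (scU d a) = a ^ d := by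
  apply Units.ext
  show LinearMap.det (algebraMap ℂ (Module.End ℂ (Fin d → ℂ)) (a : ℂ)) = _
  rw [Algebra.algebraMap_eq_smul_one, LinearMap.det_smul]
  simp

/-- the group of pairs `(g, P)` with `P` intertwining `ρ` and `ρ ∘ conj g`, `det P ^ m = 1` -/
def Gam : Subgroup (G × EndU d) where
  carrier := {x | (∀ n : N, x.2 * ρ.asGroupHom n * x.2⁻¹ =
    ρ.asGroupHom (MulAut.conjNormal x.1 n)) ∧ (detU d x.2) ^ m = 1}
  one_mem' := by
    refine ⟨fun n => ?_, ?_⟩
    · simp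
    · simp
  mul_mem' := by
    rintro x y ⟨hx, hx'⟩ ⟨hy, hy'⟩
    refine ⟨fun n => ?_, ?_⟩
    · have h1 : (x * y).2 * ρ.asGroupHom n * (x * y).2⁻¹ =
          x.2 * (y.2 * ρ.asGroupHom n * y.2⁻¹) * x.2⁻¹ := by
        simp only [Prod.snd_mul, mul_inv_rev]; group
      rw [h1, hy, hx, Prod.fst_mul, map_mul]
      rfl
    · rw [Prod.snd_mul, map_mul, mul_pow, hx', hy', one_mul]
  inv_mem' := by
    rintro x ⟨hx, hx'⟩
    refine ⟨fun n => ?_, ?_⟩
    · have h1 := hx (MulAut.conjNormal x.1⁻¹ n)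
      have h2 : MulAut.conjNormal x.1 (MulAut.conjNormal x.1⁻¹ n) = n := by
        rw [map_inv]
        exact MulEquiv.apply_symm_apply _ n
      rw [h2] at h1
      rw [Prod.snd_inv, Prod.fst_inv, ← h1]
      group
    · rw [Prod.snd_inv, map_inv, inv_pow, hx', inv_one]

def Gam.fst : Gam N ρ m →* G := (MonoidHom.fst G (EndU d)).comp (Gam N ρ m).subtype

def Gam.snd : Gam N ρ m →* EndU d := (MonoidHom.snd G (EndU d)).comp (Gam N ρ m).subtype

/-- the tautological representation of `Gam` -/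
def Gam.rep : Representation ℂ (Gam N ρ m) (Fin d → ℂ) := (Units.coeHom _).comp (Gam.snd N ρ m)

/-- the embedding of `N` -/
def Gam.iota (hm : ∀ n : N, (detU d (ρ.asGroupHom n)) ^ m = 1) : N →* Gam N ρ m where
  toFun n := ⟨((n : G), ρ.asGroupHom n), by
    refine ⟨fun k => ?_, hm n⟩
    show ρ.asGroupHom n * ρ.asGroupHom k * (ρ.asGroupHom n)⁻¹ = _
    rw [← map_mul, ← map_inv, ← map_mul]
    congr 1⟩
  map_one' := by
    apply Subtype.ext
    simp
  map_mul' a b := by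
    apply Subtype.ext
    simp

theorem Gam.fst_iota (hm : ∀ n : N, (detU d (ρ.asGroupHom n)) ^ m = 1) (n : N) :
    Gam.fst N ρ m (Gam.iota N ρ m hm n) = n := rfl

theorem Gam.conj_iota (hm : ∀ n : N, (detU d (ρ.asGroupHom n)) ^ m = 1) (x : Gam N ρ m) (n : N) :
    x * Gam.iota N ρ m hm n * x⁻¹ = Gam.iota N ρ m hm (MulAut.conjNormal (Gam.fst N ρ m x) n) := by
  apply Subtype.ext
  apply Prod.ext
  · rfl
  · exact x.2.1 n

theorem Gam.rep_iota (hm : ∀ n : N, (detU d (ρ.asGroupHom n)) ^ m = 1) (n : N) :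
    Gam.rep N ρ m (Gam.iota N ρ m hm n) = ρ n := rfl

theorem Gam.ker_scalar [ρ.IsIrreducible] (x : Gam N ρ m) (hx : Gam.fst N ρ m x = 1) :
    ∃ a : ℂˣ, Gam.snd N ρ m x = scU d a ∧ a ^ (d * m) = 1 := by
  have hx1 : x.1.1 = 1 := hx
  have hcomm : ∀ n : N, (x.1.2 : Module.End ℂ (Fin d → ℂ)) ∘ₗ ρ n = ρ n ∘ₗ x.1.2 := by
    intro n
    have h1 := x.2.1 n
    rw [hx1, map_one, mul_inv_eq_iff_eq_mul] at h1
    exact congrArg Units.val h1
  have hschur := schur_scalar ρ (x.1.2 : Module.End ℂ (Fin d → ℂ)) hcomm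
  set s : ℂ := LinearMap.trace ℂ (Fin d → ℂ) (x.1.2 : Module.End ℂ (Fin d → ℂ)) /
    (Module.finrank ℂ (Fin d → ℂ) : ℂ) with hs
  have hnontriv : Nontrivial (Fin d → ℂ) := nontrivial_of_isIrreducible ρ
  have hs0 : s ≠ 0 := by
    intro h0
    rw [h0, zero_smul] at hschur
    exact x.1.2.ne_zero hschur
  have h2 : Gam.snd N ρ m x = scU d (Units.mk0 s hs0) := by
    apply Units.ext
    show (x.1.2 : Module.End ℂ (Fin d → ℂ)) = _
    rw [hschur]
    rfl
  refine ⟨Units.mk0 s hs0, h2, ?_⟩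
  rw [pow_mul, ← detU_scU (d := d), ← h2]
  exact x.2.2

theorem Gam.ker_central [ρ.IsIrreducible] (x : Gam N ρ m) (hx : Gam.fst N ρ m x = 1)
    (y : Gam N ρ m) : x * y = y * x := by
  obtain ⟨a, ha, -⟩ := Gam.ker_scalar N ρ m x hx
  have hx1 : x.1.1 = 1 := hx
  have hx2 : x.1.2 = scU d a := ha
  apply Subtype.ext
  apply Prod.ext
  · show x.1.1 * y.1.1 = y.1.1 * x.1.1
    rw [hx1, one_mul, mul_one]
  · show x.1.2 * y.1.2 = y.1.2 * x.1.2
    rw [hx2, scU_comm]

theorem Gam.fst_surjective [Finite G] [hρ : ρ.IsIrreducible]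
    (hinv : ∀ g : G, conjFun N g ρ.character = ρ.character) :
    Function.Surjective (Gam.fst N ρ m) := by
  intro g
  let c : N ≃* N := MulAut.conjNormal g
  let ρ' : Representation ℂ N (Fin d → ℂ) := ρ.comp c.toMonoidHom
  have hchar : ρ'.character = ρ.character := by
    have h1 := hinv g⁻¹
    rw [conjFun_eq_comp, inv_inv] at h1
    exact h1
  obtain ⟨E⟩ := equiv_of_char_eq ρ ρ' hchar.symm
  let M₀ : EndU d := LinearMap.GeneralLinearGroup.ofLinearEquiv E.toLinearEquiv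
  have hM₀ : ∀ n : N, M₀ * ρ.asGroupHom n * M₀⁻¹ = ρ.asGroupHom (c n) := by
    intro n
    rw [mul_inv_eq_iff_eq_mul]
    apply Units.ext
    exact E.isIntertwining' n
  have hdpos : 0 < d := by
    have := finrank_pos_of_isIrreducible ρ
    simpa using this
  obtain ⟨t, ht⟩ := IsAlgClosed.exists_pow_nat_eq (((detU d M₀)⁻¹ : ℂˣ) : ℂ) hdpos
  have ht0 : t ≠ 0 := by
    rintro rfl
    rw [zero_pow hdpos.ne'] at ht
    exact (Units.ne_zero _) ht.symm
  have hta : (Units.mk0 t ht0) ^ d = (detU d M₀)⁻¹ := by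
    apply Units.ext
    simpa using ht
  refine ⟨⟨(g, scU d (Units.mk0 t ht0) * M₀), fun n => ?_, ?_⟩, rfl⟩
  · show scU d (Units.mk0 t ht0) * M₀ * ρ.asGroupHom n * (scU d (Units.mk0 t ht0) * M₀)⁻¹ = _
    calc scU d (Units.mk0 t ht0) * M₀ * ρ.asGroupHom n * (scU d (Units.mk0 t ht0) * M₀)⁻¹
        = scU d (Units.mk0 t ht0) * (M₀ * ρ.asGroupHom n * M₀⁻¹) * (scU d (Units.mk0 t ht0))⁻¹ := by
          simp only [mul_inv_rev]; group
      _ = scU d (Units.mk0 t ht0) * ρ.asGroupHom (c n) * (scU d (Units.mk0 t ht0))⁻¹ := by rw [hM₀]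
      _ = ρ.asGroupHom (c n) := by rw [scU_comm, mul_inv_cancel_right]
  · show (detU d (scU d (Units.mk0 t ht0) * M₀)) ^ m = 1
    rw [map_mul, detU_scU, hta, inv_mul_cancel, one_pow]

theorem Gam.finite [Finite G] [hρ : ρ.IsIrreducible] (hm : 0 < m) : Finite (Gam N ρ m) := by
  have hdpos : 0 < d := by
    have := finrank_pos_of_isIrreducible ρ
    simpa using this
  have : NeZero (d * m) := ⟨(Nat.mul_pos hdpos hm).ne'⟩
  have hker : Finite (Gam.fst N ρ m).ker := by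
    let φ : (Gam.fst N ρ m).ker → rootsOfUnity (d * m) ℂ := fun x =>
      ⟨(Gam.ker_scalar N ρ m x.1 x.2).choose, by
        rw [mem_rootsOfUnity]
        exact (Gam.ker_scalar N ρ m x.1 x.2).choose_spec.2⟩
    apply Finite.of_injective φ
    intro x y hxy
    have h1 := (Gam.ker_scalar N ρ m x.1 x.2).choose_spec.1
    have h2 := (Gam.ker_scalar N ρ m y.1 y.2).choose_spec.1
    have h3 : (Gam.ker_scalar N ρ m x.1 x.2).choose = (Gam.ker_scalar N ρ m y.1 y.2).choose :=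
      congrArg Subtype.val hxy
    rw [h3, ← h2] at h1
    apply Subtype.ext
    apply Subtype.ext
    apply Prod.ext
    · exact (x.2 : Gam.fst N ρ m x.1 = 1).trans (y.2 : Gam.fst N ρ m y.1 = 1).symm
    · exact h1
  have hq : Finite (Gam N ρ m ⧸ (Gam.fst N ρ m).ker) :=
    Finite.of_equiv _ (QuotientGroup.quotientKerEquivRange (Gam.fst N ρ m)).symm.toEquiv
  exact Finite.of_equiv _ (Subgroup.groupEquivQuotientProdSubgroup (s := (Gam.fst N ρ m).ker)).symm

end construction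

universe u

/-- **The central extension in which an invariant character extends.** -/
theorem exists_central_extension {G : Type u} [Group G] [Finite G] (N : Subgroup G)
    [hN : N.Normal] {ϑ : N → ℂ} (hϑ : Cfsg.IsIrrCharacter N ϑ)
    (hinv : ∀ g : G, conjFun N g ϑ = ϑ) :
    ∃ (Γ : Type u) (_ : Group Γ) (_ : Finite Γ) (f : Γ →* G) (ι : N →* Γ) (π : Γ → ℂ),
      Function.Surjective f ∧ (∀ n : N, f (ι n) = n) ∧
      (∀ (x : Γ) (n : N), x * ι n * x⁻¹ = ι (MulAut.conjNormal (f x) n)) ∧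
      (∀ x : Γ, f x = 1 → ∀ y : Γ, x * y = y * x) ∧
      Cfsg.IsCharacter Γ π ∧ (∀ n : N, π (ι n) = ϑ n) ∧
      (∀ x : Γ, f x = 1 → ∃ a : ℂˣ, ∀ y : Γ, π (x * y) = a * π y) := by
  obtain ⟨d, ρ, hρ, rfl⟩ := hϑ
  have := hρ
  have hm : ∀ n : N, (detU d (ρ.asGroupHom n)) ^ (Nat.card N) = 1 := by
    intro n
    rw [← map_pow, ← map_pow, pow_card_eq_one', map_one, map_one]
  refine ⟨Gam N ρ (Nat.card N), inferInstance, Gam.finite N ρ _ Nat.card_pos,
    Gam.fst N ρ _, Gam.iota N ρ _ hm, (Gam.rep N ρ _).character,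
    Gam.fst_surjective N ρ _ hinv, Gam.fst_iota N ρ _ hm, Gam.conj_iota N ρ _ hm,
    Gam.ker_central N ρ _, isCharacter_of_rep _, fun n => rfl, ?_⟩
  intro x hx
  obtain ⟨a, ha, -⟩ := Gam.ker_scalar N ρ _ x hx
  refine ⟨a, fun y => ?_⟩
  simp only [Representation.character]
  rw [map_mul]
  have h1 : Gam.rep N ρ (Nat.card N) x = (a : ℂ) • (1 : Module.End ℂ (Fin d → ℂ)) := by
    show ((Gam.snd N ρ (Nat.card N) x : EndU d) : Module.End ℂ (Fin d → ℂ)) = _
    rw [ha]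
    show algebraMap ℂ (Module.End ℂ (Fin d → ℂ)) (a : ℂ) = _
    rw [Algebra.algebraMap_eq_smul_one]
  rw [h1, smul_mul_assoc, one_mul, map_smul, smul_eq_mul]

theorem classInner_comp_mulEquiv {A B : Type*} [Group A] [Group B] [Fintype A] [Fintype B]
    (e : A ≃* B) (a b : B → ℂ) :
    Cfsg.classInner (fun x => a (e x)) (fun x => b (e x)) = Cfsg.classInner a b := by
  simp only [Cfsg.classInner]
  rw [Nat.card_congr e.toEquiv]
  congr 1
  exact Fintype.sum_equiv e.toEquiv _ _ fun x => rfl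

/-- Gallagher's theorem for an injective homomorphism with normal range. -/
theorem gallagher_hom {Γ N : Type*} [Group Γ] [Finite Γ] [Group N] [Fintype N] (j : N →* Γ)
    (hj : Function.Injective j) (hnorm : j.range.Normal) {π : Γ → ℂ} (hπ : Cfsg.IsCharacter Γ π)
    (hπN : Cfsg.IsIrrCharacter N (fun n => π (j n))) {ψ : Γ → ℂ} (hψ : Cfsg.IsIrrCharacter Γ ψ)
    (hcon : Cfsg.classInner (fun n => ψ (j n)) (fun n => π (j n)) ≠ 0) :
    ∃ β : Γ → ℂ, Cfsg.IsIrrCharacter Γ β ∧ (∀ n, β (j n) = β 1) ∧ ψ = β * π := by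
  classical
  cases nonempty_fintype Γ
  let e : N ≃* j.range := MonoidHom.ofInjective hj
  have hres : Cfsg.IsIrrCharacter j.range (fun x : j.range => π x) := by
    have h1 := Cfsg.Agent.Lib.Helper24.IsIrrCharacter.inflate e.symm.toMonoidHom e.symm.surjective hπN
    have h2 : (fun g : j.range => (fun n => π (j n)) (e.symm.toMonoidHom g)) =
        fun x : j.range => π x := by
      funext x
      have : (e (e.symm x) : Γ) = j (e.symm x) := rfl
      show π (j (e.symm x)) = π x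
      rw [← this, e.apply_symm_apply]
    rw [h2] at h1
    exact h1
  have hπirr := isIrrCharacter_of_restrict j.range hπ hres
  have hgal := gallagher j.range hπirr hres
  have hover : Cfsg.classInner (fun x : j.range => ψ x) (fun x : j.range => π x) ≠ 0 := by
    rw [← classInner_comp_mulEquiv e]
    exact hcon
  obtain ⟨β, ⟨hβ, hβk⟩, hβχ⟩ := hgal.surjOn (⟨hψ, hover⟩ : ψ ∈ {ψ : Γ → ℂ |
      Cfsg.IsIrrCharacter Γ ψ ∧ Cfsg.classInner (fun n : j.range => ψ n)
        (fun n : j.range => π n) ≠ 0})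
  exact ⟨β, hβ, fun n => hβk _ ⟨n, rfl⟩, hβχ.symm⟩

end Cfsg.Agent.Lib.Helper13
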