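import Mathlib
import Cfsg.Agent.Lib.Helper13.CentralExt
import Cfsg.Agent.Lib.Helper13.Clifford3
import Cfsg.Agent.S0179

set_option autoImplicit false
set_option linter.unusedSectionVars false

namespace Cfsg.Agent.Lib.Helper13

open Cfsg.Agent.Lib.Helper2 Cfsg.Agent.Lib.Lead
open scoped ComplexConjugate

/-- degree of an irreducible character divides the index of the centre (character form) -/
theorem exists_degree_dvd_index_center {Q : Type*} [Group Q] [Finite Q] {ψ : Q → ℂ}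
    (hψ : Cfsg.IsIrrCharacter Q ψ) : ∃ k : ℕ, ψ 1 = k ∧ k ∣ (Subgroup.center Q).index := by
  obtain ⟨k, σ, hσ, rfl⟩ := hψ
  have := hσ
  refine ⟨k, ?_, ?_⟩
  · rw [Representation.char_one]
    simp
  · have := Cfsg.Agent.S0179.result σ
    simpa using this

/-- invariant case of `χ(1)/ϑ(1) ∣ |G : N|` -/
theorem ratio_dvd_index_of_invariant {G : Type*} [Group G] [Fintype G] (N : Subgroup G)
    [hN : N.Normal] [Fintype N] {χ : G → ℂ} (hχ : Cfsg.IsIrrCharacter G χ) {ϑ : N → ℂ}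
    (hϑ : Cfsg.IsIrrCharacter N ϑ) (hinv : ∀ g : G, conjFun N g ϑ = ϑ)
    (hcon : Cfsg.classInner (fun n : N => χ n) ϑ ≠ 0) :
    ∃ e : ℕ, χ 1 = e * ϑ 1 ∧ e ∣ N.index := by
  classical
  obtain ⟨Γ, _, _, f, ι, π, hf, hfι, hconj, hcent, hπ, hπι, -⟩ :=
    exists_central_extension N hϑ hinv
  have hinj : Function.Injective ι := by
    intro a b hab
    apply Subtype.ext
    rw [← hfι a, ← hfι b, hab]
  have hnorm : ι.range.Normal := by
    constructor
    rintro _ ⟨n, rfl⟩ x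
    exact ⟨_, (hconj x n).symm⟩
  have hπN : (fun n => π (ι n)) = ϑ := funext hπι
  have hχt := Cfsg.Agent.Lib.Helper24.IsIrrCharacter.inflate f hf hχ
  obtain ⟨β, hβ, hβk, hβχ⟩ := gallagher_hom ι hinj hnorm hπ (by rw [hπN]; exact hϑ) hχt (by
    rw [hπN]
    have : (fun n => (fun g => χ (f g)) (ι n)) = fun n : N => χ n := by
      funext n
      show χ (f (ι n)) = χ n
      rw [hfι]
    rw [this]
    exact hcon)
  obtain ⟨ψ, hψ, hψβ⟩ := Cfsg.Agent.Lib.Helper24.IsIrrCharacter.deflate ι.range hβ (by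
    rintro _ ⟨n, rfl⟩
    exact hβk n)
  obtain ⟨k, hk1, hk2⟩ := exists_degree_dvd_index_center hψ
  refine ⟨k, ?_, ?_⟩
  · have h1 := congrFun hβχ 1
    simp only [map_one, Pi.mul_apply] at h1
    have h2 : π 1 = ϑ 1 := by rw [← hπι 1, map_one]
    have h3 : β 1 = k := by rw [← hk1, ← hψβ 1]; rfl
    rw [h1, h2, h3]
  · have hle : ι.range ≤ N.comap f := by
      rintro _ ⟨n, rfl⟩
      rw [Subgroup.mem_comap, hfι]
      exact n.2
    let fb : (Γ ⧸ ι.range) →* (G ⧸ N) := QuotientGroup.map ι.range N f hle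
    have hfb : Function.Surjective fb := by
      intro q
      obtain ⟨g, rfl⟩ := QuotientGroup.mk_surjective q
      obtain ⟨x, rfl⟩ := hf g
      exact ⟨(x : Γ ⧸ ι.range), rfl⟩
    have hker : fb.ker ≤ Subgroup.center (Γ ⧸ ι.range) := by
      intro q hq
      obtain ⟨x, rfl⟩ := QuotientGroup.mk_surjective q
      have h1 : f x ∈ N := by
        rw [MonoidHom.mem_ker] at hq
        have h2 : fb (x : Γ ⧸ ι.range) = ((f x : G) : G ⧸ N) := rfl
        rw [h2, QuotientGroup.eq_one_iff] at hq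
        exact hq
      set z : Γ := x * (ι ⟨f x, h1⟩)⁻¹ with hz
      have hz1 : f z = 1 := by
        rw [hz, map_mul, map_inv, hfι]
        simp
      have hxz : (x : Γ ⧸ ι.range) = (z : Γ ⧸ ι.range) := by
        rw [QuotientGroup.eq]
        refine ⟨(⟨f x, h1⟩ : N)⁻¹, ?_⟩
        rw [hz, map_inv]
        group
      rw [hxz, Subgroup.mem_center_iff]
      intro q'
      obtain ⟨y, rfl⟩ := QuotientGroup.mk_surjective q'
      rw [← QuotientGroup.mk_mul, ← QuotientGroup.mk_mul, hcent z hz1 y]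
    have h3 : fb.ker.index = N.index := by
      rw [Subgroup.index_ker, MonoidHom.range_eq_top.mpr hfb, Subgroup.index_eq_card]
      exact Nat.card_congr Subgroup.topEquiv.toEquiv
    rw [← h3]
    exact hk2.trans (Subgroup.index_dvd_of_le hker)

/-- **`χ(1)/ϑ(1)` divides `|G : N|`** (Isaacs 11.29). -/
theorem ratio_dvd_index {G : Type*} [Group G] [Fintype G] (N : Subgroup G)
    [hN : N.Normal] [Fintype N] {χ : G → ℂ} (hχ : Cfsg.IsIrrCharacter G χ) {ϑ : N → ℂ}
    (hϑ : Cfsg.IsIrrCharacter N ϑ) (hcon : Cfsg.classInner (fun n : N => χ n) ϑ ≠ 0) :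
    ∃ e : ℕ, χ 1 = e * ϑ 1 ∧ e ∣ N.index := by
  classical
  set T := inertia N ϑ with hTdef
  have hT : ∀ g, g ∈ T ↔ conjFun N g ϑ = ϑ := fun g => mem_inertia N ϑ g
  have hNT : N ≤ T := le_inertia N hϑ T hT
  obtain ⟨ψ, hψ, hψχ, -, hψcon⟩ := clifford_surj N hϑ T hT hNT hχ hcon
  have hcon' : Cfsg.classInner (fun n : N.subgroupOf T => ψ n) (toSubgroupOf N T ϑ) ≠ 0 := by
    have h1 := classInner_toSubgroupOf hNT (fun n : N => ψ ⟨(n : G), hNT n.2⟩) ϑ
    rw [hψcon] at h1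
    have h2 : toSubgroupOf N T (fun n : N => ψ ⟨(n : G), hNT n.2⟩) =
        fun n : N.subgroupOf T => ψ n := rfl
    rw [h2] at h1
    rw [h1]
    exact hcon
  obtain ⟨e, he1, he2⟩ := ratio_dvd_index_of_invariant (N.subgroupOf T) hψ
    (IsIrrCharacter.toSubgroupOf hNT hϑ)
    (fun t => by rw [conjFun_toSubgroupOf, (hT t).mp t.2]) hcon'
  refine ⟨T.index * e, ?_, ?_⟩
  · rw [← hψχ, Cfsg.Agent.Lib.Helper24.indFun_one, he1]
    push_cast
    rw [mul_assoc]
    rfl
  · rw [← Subgroup.relIndex_mul_index hNT, mul_comm]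
    exact Nat.mul_dvd_mul_right he2 _

end Cfsg.Agent.Lib.Helper13
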