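import Mathlib
import Cfsg.Agent.Lib.Helper13.CentralExt
import Cfsg.Agent.Lib.Helper13.Clifford4
import Cfsg.Agent.S0864

set_option autoImplicit false
set_option linter.unusedSectionVars false

namespace Cfsg.Agent.Lib.Helper13

open Cfsg.Agent.Lib.Helper2 Cfsg.Agent.Lib.Lead
open scoped ComplexConjugate

theorem isIrrCharacter_of_comp_hom {Γ N : Type*} [Group Γ] [Finite Γ] [Group N] (j : N →* Γ)
    (hj : Function.Injective j) {π : Γ → ℂ} (hπ : Cfsg.IsCharacter Γ π)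
    (hπN : Cfsg.IsIrrCharacter N (fun n => π (j n))) : Cfsg.IsIrrCharacter Γ π := by
  classical
  cases nonempty_fintype Γ
  let e : N ≃* j.range := MonoidHom.ofInjective hj
  have hres : Cfsg.IsIrrCharacter j.range (fun x : j.range => π x) := by
    have h1 := Cfsg.Agent.Lib.Helper24.IsIrrCharacter.inflate e.symm.toMonoidHom e.symm.surjective hπN
    have h2 : (fun g : j.range => (fun n => π (j n)) (e.symm.toMonoidHom g)) =
        fun x : j.range => π x := by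
      funext x
      have : (e (e.symm x) : Γ) = j (e.symm x) := rfl
      show π (j (e.symm x)) = π x
      rw [← this, e.apply_symm_apply]
    rw [h2] at h1
    exact h1
  exact isIrrCharacter_of_restrict j.range hπ hres

/-- deflation along a surjective homomorphism -/
theorem IsIrrCharacter.deflate_hom {Γ G : Type*} [Group Γ] [Finite Γ] [Group G] (f : Γ →* G)
    (hf : Function.Surjective f) {χ : Γ → ℂ} (hχ : Cfsg.IsIrrCharacter Γ χ)
    (hker : ∀ x, f x = 1 → χ x = χ 1) :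
    ∃ ψ : G → ℂ, Cfsg.IsIrrCharacter G ψ ∧ ∀ x, ψ (f x) = χ x := by
  obtain ⟨ψ, hψ, h⟩ := Cfsg.Agent.Lib.Helper24.IsIrrCharacter.deflate f.ker hχ
    (fun n hn => hker n hn)
  let e := QuotientGroup.quotientKerEquivOfSurjective f hf
  refine ⟨fun g => ψ (e.symm g),
    Cfsg.Agent.Lib.Helper24.IsIrrCharacter.inflate e.symm.toMonoidHom e.symm.surjective hψ, ?_⟩
  intro x
  have h1 : e.symm (f x) = (x : Γ ⧸ f.ker) := by
    rw [MulEquiv.symm_apply_eq]
    rfl
  show ψ (e.symm (f x)) = χ x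
  rw [h1, h]

/-- **Extension from Sylow extensions** (Isaacs 11.31). -/
theorem exists_extension_of_sylow_extensions {G : Type*} [Group G] [Finite G] (N : Subgroup G)
    [hN : N.Normal] {ϑ : N → ℂ} (hϑ : Cfsg.IsIrrCharacter N ϑ)
    (hinv : ∀ g : G, conjFun N g ϑ = ϑ)
    (hsyl : ∀ p : ℕ, p.Prime → ∃ (P : Subgroup G) (hNP : N ≤ P) (η : P → ℂ),
      Nat.Coprime P.index p ∧ (∃ k : ℕ, N.relIndex P = p ^ k) ∧ Cfsg.IsIrrCharacter P η ∧
      ∀ n : N, η ⟨(n : G), hNP n.2⟩ = ϑ n) :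
    ∃ χ : G → ℂ, Cfsg.IsIrrCharacter G χ ∧ ∀ n : N, χ n = ϑ n := by
  classical
  cases nonempty_fintype G
  obtain ⟨Γ, _, _, f, ι, π, hf, hfι, hconj, hcent, hπ, hπι, hscal⟩ :=
    exists_central_extension N hϑ hinv
  cases nonempty_fintype Γ
  have hinj : Function.Injective ι := by
    intro a b hab
    apply Subtype.ext
    rw [← hfι a, ← hfι b, hab]
  have hπN : (fun n => π (ι n)) = ϑ := funext hπι
  have hπirr : Cfsg.IsIrrCharacter Γ π := isIrrCharacter_of_comp_hom ι hinj hπ (by rw [hπN]; exact hϑ)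
  have hπ1 : π 1 ≠ 0 := Cfsg.Agent.Lib.Helper6.irr_one_ne_zero hπirr
  have hπ1' : π 1 = ϑ 1 := by rw [← hπι 1, map_one]
  -- the central character
  let A : f.ker →* ℂˣ := MonoidHom.mk' (fun z => (hscal z.1 z.2).choose) (by
    intro a b
    have ha := (hscal a.1 a.2).choose_spec
    have hb := (hscal b.1 b.2).choose_spec
    have hab := (hscal (a * b).1 (a * b).2).choose_spec
    apply Units.ext
    have h1 := hab 1
    have h2 : ((a * b : f.ker) : Γ) * 1 = (a : Γ) * ((b : Γ) * 1) := by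
      simp
    rw [h2, ha, hb, ← mul_assoc] at h1
    rw [Units.val_mul]
    exact (mul_right_cancel₀ hπ1 h1).symm)
  have hA : ∀ (z : f.ker) (y : Γ), π (z * y) = A z * π y := fun z => (hscal z.1 z.2).choose_spec
  set M : Subgroup Γ := N.comap f with hM
  have hMn : M.Normal := hN.comap f
  let κ : M →* f.ker := MonoidHom.mk' (fun x => ⟨x * (ι ⟨f x, x.2⟩)⁻¹, by
      rw [MonoidHom.mem_ker, map_mul, map_inv, hfι]
      simp⟩) (by
    intro a b
    apply Subtype.ext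
    have hb : f ((b : Γ) * (ι ⟨f b, b.2⟩)⁻¹) = 1 := by
      rw [map_mul, map_inv, hfι]
      simp
    have h1 : (⟨f ((a * b : M) : Γ), (a * b).2⟩ : N) = ⟨f a, a.2⟩ * ⟨f b, b.2⟩ := by
      apply Subtype.ext
      simp
    show ((a * b : M) : Γ) * (ι ⟨f ((a * b : M) : Γ), (a * b).2⟩)⁻¹ =
      ((a : Γ) * (ι ⟨f a, a.2⟩)⁻¹) * ((b : Γ) * (ι ⟨f b, b.2⟩)⁻¹)
    rw [h1, map_mul, mul_inv_rev, ← hcent _ hb, Subgroup.coe_mul]
    have h2 := hcent _ hb (a : Γ)
    calc (a : Γ) * b * ((ι ⟨f b, b.2⟩)⁻¹ * (ι ⟨f a, a.2⟩)⁻¹)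
        = (a : Γ) * ((b : Γ) * (ι ⟨f b, b.2⟩)⁻¹) * (ι ⟨f a, a.2⟩)⁻¹ := by group
      _ = ((b : Γ) * (ι ⟨f b, b.2⟩)⁻¹) * (a : Γ) * (ι ⟨f a, a.2⟩)⁻¹ := by rw [h2]
      _ = _ := by group)
  have hκ : ∀ x : M, (x : Γ) = (κ x : Γ) * ι ⟨f x, x.2⟩ := by
    intro x
    show (x : Γ) = (x : Γ) * (ι ⟨f x, x.2⟩)⁻¹ * ι ⟨f x, x.2⟩
    group
  let L : M →* ℂˣ := (A.comp κ)⁻¹
  have hL : ∀ x : M, L x = (A (κ x))⁻¹ := fun x => rfl
  have hlin : Cfsg.IsCharacter M (fun x => (L x : ℂ)) ∧ (fun x : M => (L x : ℂ)) 1 = 1 :=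
    ⟨IsIrrCharacter.isCharacter (isIrrCharacter_of_hom L), by simp⟩
  have hLinv : ∀ (g : Γ) (n : M), (fun x : M => (L x : ℂ)) ⟨g * n * g⁻¹, hMn.conj_mem (n : Γ) n.2 g⟩ =
      (fun x : M => (L x : ℂ)) n := by
    intro g n
    have h1 : κ ⟨g * n * g⁻¹, hMn.conj_mem (n : Γ) n.2 g⟩ = κ n := by
      apply Subtype.ext
      show g * n * g⁻¹ * (ι ⟨f (g * n * g⁻¹), _⟩)⁻¹ = (n : Γ) * (ι ⟨f n, n.2⟩)⁻¹
      have h2 : (⟨f (g * n * g⁻¹), hMn.conj_mem (n : Γ) n.2 g⟩ : N) =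
          MulAut.conjNormal (f g) ⟨f n, n.2⟩ := by
        apply Subtype.ext
        simp
      rw [h2, ← hconj]
      have h3 : f ((n : Γ) * (ι ⟨f n, n.2⟩)⁻¹) = 1 := (κ n).2
      have h4 := hcent _ h3 g⁻¹
      calc g * n * g⁻¹ * (g * ι ⟨f n, n.2⟩ * g⁻¹)⁻¹
          = g * (((n : Γ) * (ι ⟨f n, n.2⟩)⁻¹) * g⁻¹) := by group
        _ = g * (g⁻¹ * ((n : Γ) * (ι ⟨f n, n.2⟩)⁻¹)) := by rw [h4]
        _ = _ := by group
    show ((L _ : ℂˣ) : ℂ) = L n
    rw [hL, hL, h1]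
  have hsyl' : ∀ p : ℕ, p.Prime → p ∣ orderOf (fun x : M => (L x : ℂ)) →
      ∃ (H : Subgroup Γ) (hNH : M ≤ H) (ν : H → ℂ), Nat.Coprime H.index p ∧
      (∃ k : ℕ, M.relIndex H = p ^ k) ∧ Cfsg.IsCharacter H ν ∧ ν 1 = 1 ∧
      ∀ n : M, ν ⟨(n : Γ), hNH n.2⟩ = (fun x : M => (L x : ℂ)) n := by
    intro p hp _
    obtain ⟨P, hNP, η, hPi, ⟨k, hk⟩, hη, hηN⟩ := hsyl p hp
    set H : Subgroup Γ := P.comap f with hH
    have hMH : M ≤ H := Subgroup.comap_mono hNP
    let j : N →* H := ι.codRestrict H (fun n => by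
      rw [hH, Subgroup.mem_comap, hfι]
      exact hNP n.2)
    have hjinj : Function.Injective j := by
      intro a b hab
      exact hinj (congrArg Subtype.val hab)
    have hjnorm : j.range.Normal := by
      constructor
      rintro _ ⟨n, rfl⟩ x
      refine ⟨MulAut.conjNormal (f x) n, ?_⟩
      apply Subtype.ext
      exact (hconj x n).symm
    have hπH : Cfsg.IsCharacter H (fun x : H => π x) := IsCharacter.restrict H hπ
    have hπHN : (fun n => (fun x : H => π x) (j n)) = ϑ := funext hπι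
    let fH : H →* P := f.subgroupComap P
    have hfH : Function.Surjective fH := f.subgroupComap_surjective_of_surjective P hf
    have hψ := Cfsg.Agent.Lib.Helper24.IsIrrCharacter.inflate fH hfH hη
    have hψN : (fun n => (fun g => η (fH g)) (j n)) = ϑ := by
      funext n
      rw [← hηN n]
      show η (fH (j n)) = _
      congr 1
      apply Subtype.ext
      exact hfι n
    obtain ⟨β, hβ, hβk, hβψ⟩ := gallagher_hom j hjinj hjnorm hπH (by rw [hπHN]; exact hϑ) hψ (by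
      rw [hπHN, hψN, classInner_irr hϑ hϑ, if_pos rfl]
      exact one_ne_zero)
    have hη1 : η 1 = ϑ 1 := by rw [← hηN 1]; rfl
    have hβ1 : β 1 = 1 := by
      have h1 := congrFun hβψ 1
      simp only [map_one, Pi.mul_apply, Subgroup.coe_one] at h1
      rw [hη1, hπ1'] at h1
      rw [hπ1'] at hπ1
      exact (mul_right_cancel₀ hπ1 (by rw [one_mul]; exact h1)).symm
    obtain ⟨b, rfl⟩ := exists_hom_of_degree_one (IsIrrCharacter.isCharacter hβ) hβ1
    refine ⟨H, hMH, fun g => (b g : ℂ), ?_, ⟨k, ?_⟩, IsIrrCharacter.isCharacter hβ, hβ1, ?_⟩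
    · rw [hH, Subgroup.index_comap_of_surjective P hf]
      exact hPi
    · rw [hM, hH, Subgroup.relIndex_comap, Subgroup.map_comap_eq_self_of_surjective hf]
      exact hk
    · intro x
      have hz : ((κ x : Γ)) ∈ H := by
        rw [hH, Subgroup.mem_comap, (κ x).2]
        exact P.one_mem
      have h1 : (⟨(x : Γ), hMH x.2⟩ : H) = ⟨(κ x : Γ), hz⟩ * j ⟨f x, x.2⟩ := by
        apply Subtype.ext
        exact hκ x
      have h2 : b (j ⟨f x, x.2⟩) = 1 := by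
        apply Units.ext
        have := hβk ⟨f x, x.2⟩
        simpa using this
      have h3 : (b ⟨(κ x : Γ), hz⟩ : ℂ) * A (κ x) = 1 := by
        have h4 := congrFun hβψ ⟨(κ x : Γ), hz⟩
        simp only [Pi.mul_apply] at h4
        have h5 : fH ⟨(κ x : Γ), hz⟩ = 1 := by
          apply Subtype.ext
          exact (κ x).2
        have h6 := hA (κ x) 1
        rw [mul_one] at h6
        rw [h5, hη1, h6, ← hπ1', ← mul_assoc] at h4
        exact (mul_right_cancel₀ hπ1 (by rw [one_mul]; exact h4)).symm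
      show (b ⟨(x : Γ), hMH x.2⟩ : ℂ) = L x
      rw [h1, map_mul, h2, mul_one, hL, Units.val_inv_eq_inv_val]
      exact eq_inv_of_mul_eq_one_left h3
  obtain ⟨μ, hμ, hμ1, hμM⟩ := Cfsg.Agent.S0864.result M _ hlin hLinv hsyl'
  have hχh : Cfsg.IsIrrCharacter Γ (μ * π) := IsIrrCharacter.linear_mul hμ hμ1 hπirr
  have hκι : ∀ n : N, ∀ h : ι n ∈ M, κ ⟨ι n, h⟩ = 1 := by
    intro n h
    apply Subtype.ext
    show ι n * (ι ⟨f (ι n), _⟩)⁻¹ = 1
    have : (⟨f (ι n), h⟩ : N) = n := Subtype.ext (hfι n)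
    rw [this, mul_inv_cancel]
  have hker : ∀ x, f x = 1 → (μ * π) x = (μ * π) 1 := by
    intro x hx
    have hxM : x ∈ M := by
      rw [hM, Subgroup.mem_comap, hx]
      exact N.one_mem
    have h1 := hμM ⟨x, hxM⟩
    have h2 : κ ⟨x, hxM⟩ = ⟨x, hx⟩ := by
      apply Subtype.ext
      show x * (ι ⟨f x, _⟩)⁻¹ = x
      have : (⟨f x, hxM⟩ : N) = 1 := Subtype.ext hx
      rw [this, map_one, inv_one, mul_one]
    have h3 := hA ⟨x, hx⟩ 1
    simp only [mul_one] at h3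
    simp only [hL, h2] at h1
    rw [Pi.mul_apply, Pi.mul_apply, h1, h3, hμ1, one_mul, ← mul_assoc, Units.val_inv_eq_inv_val,
      inv_mul_cancel₀ (Units.ne_zero _), one_mul]
  obtain ⟨χ, hχ, hχf⟩ := IsIrrCharacter.deflate_hom f hf hχh hker
  refine ⟨χ, hχ, fun n => ?_⟩
  have hιM : ι n ∈ M := by
    rw [hM, Subgroup.mem_comap, hfι]
    exact n.2
  have h1 := hχf (ι n)
  rw [hfι] at h1
  have h2 := hμM ⟨ι n, hιM⟩
  simp only [hL, hκι n hιM, map_one, inv_one, Units.val_one] at h2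
  rw [h1, Pi.mul_apply, h2, one_mul, hπι]

end Cfsg.Agent.Lib.Helper13
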