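import Mathlib
import Cfsg.Prelude.Def_CharExt
import Cfsg.Agent.Lib.Helper2.Decomp
import Cfsg.Agent.Lib.Helper2.CharOps
import Cfsg.Agent.Lib.Helper2.Linear

set_option autoImplicit false
set_option linter.unusedSectionVars false

namespace Cfsg.Agent.Lib.Helper13

open Cfsg.Agent.Lib.Helper2

section det

variable {G : Type*} [Group G] [Finite G]

/-- the determinantal character can be computed from any representation affording `χ` -/
theorem detChar_eq_of_rep {V : Type*} [AddCommGroup V] [Module ℂ V] [FiniteDimensional ℂ V]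
    (ρ : Representation ℂ G V) (g : G) :
    Cfsg.detChar ρ.character g = LinearMap.det (ρ g) := by
  have h : Cfsg.IsCharacter G ρ.character := isCharacter_of_rep ρ
  simp only [Cfsg.detChar, dif_pos h]
  set σ := Classical.choose (Classical.choose_spec h) with hσ
  have hchar : σ.character = ρ.character := Classical.choose_spec (Classical.choose_spec h)
  obtain ⟨E⟩ := equiv_of_char_eq σ ρ hchar
  have h1 : ρ g = E.toLinearEquiv.toLinearMap ∘ₗ σ g ∘ₗ E.toLinearEquiv.symm.toLinearMap := by
    have h2 := E.isIntertwining' g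
    ext v
    have h3 := congrArg (fun f => f (E.toLinearEquiv.symm v)) h2
    simp only [LinearMap.comp_apply] at h3 ⊢
    have h4 : E.toLinearMap (E.toLinearEquiv.symm v) = v := E.toLinearEquiv.apply_symm_apply v
    rw [h4] at h3
    exact h3.symm
  rw [h1, LinearMap.det_conj]

/-- the determinantal character is a homomorphism to `ℂˣ` -/
theorem exists_hom_detChar {χ : G → ℂ} (hχ : Cfsg.IsCharacter G χ) :
    ∃ δ : G →* ℂˣ, Cfsg.detChar χ = fun g => (δ g : ℂ) := by
  obtain ⟨n, ρ, rfl⟩ := hχ
  refine ⟨((LinearMap.det : ((Fin n → ℂ) →ₗ[ℂ] (Fin n → ℂ)) →* ℂ).comp ρ).toHomUnits, ?_⟩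
  funext g
  rw [detChar_eq_of_rep]
  rfl

theorem detChar_comp_hom {H : Type*} [Group H] [Finite H] (f : H →* G) {χ : G → ℂ}
    (hχ : Cfsg.IsCharacter G χ) :
    Cfsg.detChar (fun h : H => χ (f h)) = fun h => Cfsg.detChar χ (f h) := by
  obtain ⟨n, ρ, rfl⟩ := hχ
  funext h
  let σ : Representation ℂ H (Fin n → ℂ) := ρ.comp f
  have h1 : (fun h : H => ρ.character (f h)) = σ.character := rfl
  rw [h1, detChar_eq_of_rep, detChar_eq_of_rep]
  rfl

/-- twisting by a linear character -/
theorem detChar_hom_mul (lam : G →* ℂˣ) {χ : G → ℂ} (hχ : Cfsg.IsCharacter G χ) (n : ℕ)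
    (hn : χ 1 = n) :
    Cfsg.detChar ((fun g => (lam g : ℂ)) * χ) = fun g => (lam g : ℂ) ^ n * Cfsg.detChar χ g := by
  obtain ⟨d, ρ, rfl⟩ := hχ
  have hd : Module.finrank ℂ (Fin d → ℂ) = n := by
    rw [Representation.char_one] at hn
    exact_mod_cast hn
  let σ : Representation ℂ G (Fin d → ℂ) :=
    { toFun := fun g => (lam g : ℂ) • ρ g
      map_one' := by simp
      map_mul' := by
        intro a b
        rw [map_mul, map_mul, Units.val_mul, smul_mul_smul_comm] }
  have hσ : σ.character = (fun g => (lam g : ℂ)) * ρ.character := by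
    funext g
    simp [Representation.character, σ]
  funext g
  rw [← hσ, detChar_eq_of_rep, detChar_eq_of_rep]
  show LinearMap.det ((lam g : ℂ) • ρ g) = _
  rw [LinearMap.det_smul, hd]

end det

end Cfsg.Agent.Lib.Helper13
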