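import Mathlib
import Cfsg.Agent.Lib.Helper13.DetChar
import Cfsg.Agent.Lib.Helper13.Clifford4
import Cfsg.Agent.Lib.Helper13.CyclicExt2

set_option autoImplicit false
set_option linter.unusedSectionVars false

namespace Cfsg.Agent.Lib.Helper13

open Cfsg.Agent.Lib.Helper2 Cfsg.Agent.Lib.Lead
open scoped ComplexConjugate

section

variable {G : Type*} [Group G] [Finite G] (N : Subgroup G) [hN : N.Normal]

/-- a linear character of `G/N` has order dividing the index -/
theorem hom_pow_index_eq_one (c : G →* ℂˣ) (hc : ∀ n ∈ N, c n = 1) (g : G) :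
    (c g) ^ N.index = 1 := by
  rw [← map_pow, hc _ (Subgroup.pow_index_mem N g)]

theorem hom_eq_one_of_coprime (c : G →* ℂˣ) (hc : ∀ n ∈ N, c n = 1) (d : ℕ)
    (hcop : Nat.Coprime N.index d) (hd : ∀ g, (c g) ^ d = 1) (g : G) : c g = 1 := by
  have h1 := hom_pow_index_eq_one N c hc g
  have h2 : orderOf (c g) ∣ Nat.gcd N.index d :=
    Nat.dvd_gcd (orderOf_dvd_of_pow_eq_one h1) (orderOf_dvd_of_pow_eq_one (hd g))
  rw [hcop, Nat.dvd_one, orderOf_eq_one_iff] at h2
  exact h2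

theorem exists_hom_root_of_coprime (c : G →* ℂˣ) (hc : ∀ n ∈ N, c n = 1) (d : ℕ)
    (hcop : Nat.Coprime N.index d) :
    ∃ e : G →* ℂˣ, (∀ n ∈ N, e n = 1) ∧ ∀ g, (e g) ^ d = c g := by
  have hb := Nat.gcd_eq_gcd_ab N.index d
  rw [hcop] at hb
  refine ⟨(zpowGroupHom (Nat.gcdB N.index d)).comp c, ?_, ?_⟩
  · intro n hn
    rw [MonoidHom.comp_apply, hc n hn, map_one]
  · intro g
    have h1 := hom_pow_index_eq_one N c hc g
    have h2 : c g = (c g) ^ ((N.index : ℤ) * Nat.gcdA N.index d + (d : ℤ) * Nat.gcdB N.index d) := by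
      rw [← hb]; simp
    rw [MonoidHom.comp_apply, zpowGroupHom_apply]
    conv_rhs => rw [h2]
    rw [zpow_add, zpow_mul, zpow_natCast, h1, one_zpow, one_mul, ← zpow_natCast, ← zpow_mul,
      mul_comm]

/-- **Extension with prescribed determinant** -/
theorem existsUnique_extension_det {ϑ : N → ℂ} (hϑ : Cfsg.IsIrrCharacter N ϑ) (d : ℕ)
    (hd : ϑ 1 = d) (hcop : Nat.Coprime N.index d)
    (hext : ∃ η : G → ℂ, Cfsg.IsIrrCharacter G η ∧ (∀ n : N, η n = ϑ n)) (μ : G → ℂ)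
    (hμ : Cfsg.IsCharacter G μ ∧ μ 1 = 1) (hμN : ∀ n : N, μ n = Cfsg.detChar ϑ n) :
    ∃! χ : G → ℂ, Cfsg.IsIrrCharacter G χ ∧ (∀ n : N, χ n = ϑ n) ∧ Cfsg.detChar χ = μ := by
  classical
  cases nonempty_fintype G
  obtain ⟨η, hη, hηN⟩ := hext
  have hηc := IsIrrCharacter.isCharacter hη
  obtain ⟨m, rfl⟩ := exists_hom_of_degree_one hμ.1 hμ.2
  obtain ⟨δ, hδ⟩ := exists_hom_detChar hηc
  have hres : (fun n : N => η n) = ϑ := funext hηN
  have hη1 : η 1 = d := by rw [← hd, ← hηN 1]; rfl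
  have hδN : ∀ n ∈ N, δ n = m n := by
    intro n hn
    have h1 := detChar_comp_hom N.subtype hηc
    have h2 := congrFun h1 ⟨n, hn⟩
    simp only [Subgroup.coe_subtype] at h2
    rw [hres, ← hμN ⟨n, hn⟩, hδ] at h2
    exact (Units.ext h2).symm
  have hlamN : ∀ n ∈ N, (m * δ⁻¹) n = 1 := by
    intro n hn
    rw [MonoidHom.mul_apply, MonoidHom.inv_apply, hδN n hn, mul_inv_cancel]
  obtain ⟨e, heN, hed⟩ := exists_hom_root_of_coprime N (m * δ⁻¹) hlamN d hcop
  have hlin : ∀ b : G →* ℂˣ, Cfsg.IsCharacter G (fun g => (b g : ℂ)) ∧ (fun g => (b g : ℂ)) 1 = 1 :=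
    fun b => ⟨IsIrrCharacter.isCharacter (isIrrCharacter_of_hom b), by simp⟩
  have hdet : ∀ b : G →* ℂˣ, Cfsg.detChar ((fun g => (b g : ℂ)) * η) =
      fun g => (((b g) ^ d * δ g : ℂˣ) : ℂ) := by
    intro b
    rw [detChar_hom_mul b hηc d hη1, hδ]
    funext g
    simp
  refine ⟨(fun g => (e g : ℂ)) * η, ⟨IsIrrCharacter.linear_mul (hlin e).1 (hlin e).2 hη, ?_, ?_⟩, ?_⟩
  · intro n
    rw [Pi.mul_apply, heN n n.2, hηN]
    simp
  · rw [hdet e]
    funext g
    rw [hed g]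
    simp
  · rintro χ' ⟨hχ', hχ'N, hχ'det⟩
    have hgal := gallagher N hη (by rw [hres]; exact hϑ)
    have hover : Cfsg.classInner (fun n : N => χ' n) (fun n : N => η n) ≠ 0 := by
      rw [hres, funext hχ'N, classInner_irr hϑ hϑ, if_pos rfl]
      exact one_ne_zero
    obtain ⟨β, ⟨hβ, hβk⟩, hβχ⟩ := hgal.surjOn (⟨hχ', hover⟩ : χ' ∈ {ψ : G → ℂ |
      Cfsg.IsIrrCharacter G ψ ∧ Cfsg.classInner (fun n : N => ψ n) (fun n : N => η n) ≠ 0})
    simp only at hβχ
    have hβ1 : β 1 = 1 := by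
      have h1 := congrFun hβχ 1
      have h2 : χ' 1 = η 1 := by
        have := hχ'N 1
        rw [← hηN 1] at this
        exact this
      rw [Pi.mul_apply, h2] at h1
      exact mul_right_cancel₀ (Cfsg.Agent.Lib.Helper6.irr_one_ne_zero hη) (by rw [h1, one_mul])
    obtain ⟨b, rfl⟩ := exists_hom_of_degree_one (IsIrrCharacter.isCharacter hβ) hβ1
    have hbN : ∀ n ∈ N, b n = 1 := by
      intro n hn
      apply Units.ext
      have := hβk n hn
      simp only [map_one, Units.val_one] at this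
      exact this
    have hbd : ∀ g, (b g) ^ d * δ g = m g := by
      rw [← hβχ, hdet b] at hχ'det
      intro g
      exact Units.ext (congrFun hχ'det g)
    have hbe : ∀ g, (b * e⁻¹) g = 1 := by
      apply hom_eq_one_of_coprime N _ _ d hcop
      · intro g
        rw [MonoidHom.mul_apply, MonoidHom.inv_apply, mul_pow, inv_pow, hed,
          MonoidHom.mul_apply, MonoidHom.inv_apply, ← hbd]
        simp
      · intro n hn
        rw [MonoidHom.mul_apply, MonoidHom.inv_apply, hbN n hn, heN n hn]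
        simp
    have hbe' : b = e := by
      ext g
      have := hbe g
      rw [MonoidHom.mul_apply, MonoidHom.inv_apply, mul_inv_eq_one] at this
      rw [this]
    rw [← hβχ, hbe']

end

end Cfsg.Agent.Lib.Helper13
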