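import Mathlib
import Cfsg.Agent.Lib.Helper13.DetExt
import Cfsg.Agent.Lib.Helper13.Clifford2
import Cfsg.Agent.Lib.Helper1.Basic

set_option autoImplicit false
set_option linter.unusedSectionVars false

namespace Cfsg.Agent.Lib.Helper13

open Cfsg.Agent.Lib.Helper2 Cfsg.Agent.Lib.Lead
open scoped ComplexConjugate

universe u

theorem solvable_quotient_subgroupOf {G : Type*} [Group G] (N M : Subgroup G) [N.Normal]
    (h : Group.IsSolvable (G ⧸ N)) : Group.IsSolvable (M ⧸ N.subgroupOf M) := by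
  let f : (M ⧸ N.subgroupOf M) →* (G ⧸ N) :=
    QuotientGroup.map (N.subgroupOf M) N M.subtype (le_refl _)
  refine Group.isSolvable_of_isSolvable_injective (f := f) ?_
  rw [injective_iff_map_eq_one]
  intro q
  induction q using QuotientGroup.induction_on with
  | H m =>
    intro hm
    rw [QuotientGroup.eq_one_iff]
    have : f (m : M ⧸ N.subgroupOf M) = ((m : G) : G ⧸ N) := rfl
    rw [this, QuotientGroup.eq_one_iff] at hm
    exact hm

theorem detChar_toSubgroupOf {G : Type*} [Group G] [Finite G] {N M : Subgroup G} (hNM : N ≤ M)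
    {ϑ : N → ℂ} (hϑ : Cfsg.IsCharacter N ϑ) (x : N.subgroupOf M) :
    Cfsg.detChar (toSubgroupOf N M ϑ) x = Cfsg.detChar ϑ ⟨(x : M), Subgroup.mem_subgroupOf.mp x.2⟩ := by
  have h := detChar_comp_hom (Subgroup.subgroupOfEquivOfLe hNM).toMonoidHom hϑ
  exact congrFun h x

theorem exists_extension_of_det_aux (k : ℕ) : ∀ (G : Type u) [Group G] [Finite G] (N : Subgroup G)
    [hN : N.Normal], N.index = k → Group.IsSolvable (G ⧸ N) → ∀ (ϑ : N → ℂ),
    Cfsg.IsIrrCharacter N ϑ → (∀ g : G, conjFun N g ϑ = ϑ) → ∀ d : ℕ, ϑ 1 = d →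
    Nat.Coprime N.index d → ∀ μ : G →* ℂˣ, (∀ n : N, (μ n : ℂ) = Cfsg.detChar ϑ n) →
    ∃ χ : G → ℂ, Cfsg.IsIrrCharacter G χ ∧ ∀ n : N, χ n = ϑ n := by
  induction k using Nat.strong_induction_on with
  | _ k ih =>
  intro G _ _ N hN hk hsolv ϑ hϑ hinv d hd hcop μ hμ
  classical
  cases nonempty_fintype G
  by_cases htop : N = ⊤
  · have hcyc : IsCyclic (G ⧸ N) := by
      have : Subsingleton (G ⧸ N) := by
        rw [htop]
        exact QuotientGroup.subsingleton_quotient_top
      infer_instance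
    exact exists_extension_of_cyclic_quotient N hcyc hϑ hinv
  · have hnt : Nontrivial (G ⧸ N) := by
      by_contra hcon
      rw [not_nontrivial_iff_subsingleton] at hcon
      apply htop
      rw [eq_top_iff]
      intro g _
      rw [← QuotientGroup.eq_one_iff]
      exact Subsingleton.elim _ _
    obtain ⟨Mb, hMbn, hMbp⟩ := Cfsg.Agent.Lib.Helper1.exists_normal_index_prime (G := G ⧸ N)
    set M : Subgroup G := Mb.comap (QuotientGroup.mk' N) with hM
    have hMn : M.Normal := hMbn.comap _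
    have hMi : M.index = Mb.index :=
      Subgroup.index_comap_of_surjective Mb (QuotientGroup.mk'_surjective N)
    have hNM : N ≤ M := by
      intro n hn
      rw [hM, Subgroup.mem_comap]
      have : QuotientGroup.mk' N n = 1 := (QuotientGroup.eq_one_iff n).mpr hn
      rw [this]
      exact Mb.one_mem
    have hrel : N.relIndex M * M.index = N.index := Subgroup.relIndex_mul_index hNM
    have hMp : M.index.Prime := hMi ▸ hMbp
    have hN0 : N.index ≠ 0 := Subgroup.index_ne_zero_of_finite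
    have hlt : (N.subgroupOf M).index < k := by
      show N.relIndex M < k
      rw [← hk, ← hrel]
      have h0 : 0 < N.relIndex M := by
        rcases Nat.eq_zero_or_pos (N.relIndex M) with h | h
        · rw [h, zero_mul] at hrel
          exact absurd hrel.symm hN0
        · exact h
      exact lt_mul_of_one_lt_right h0 hMp.one_lt
    have hcop' : Nat.Coprime (N.subgroupOf M).index d :=
      Nat.Coprime.coprime_dvd_left (Dvd.intro _ hrel) hcop
    have hϑ' := IsIrrCharacter.toSubgroupOf hNM hϑ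
    have hinv' : ∀ m : M, conjFun (N.subgroupOf M) m (toSubgroupOf N M ϑ) = toSubgroupOf N M ϑ := by
      intro m
      rw [conjFun_toSubgroupOf, hinv]
    have hd' : toSubgroupOf N M ϑ 1 = d := hd
    have hμ' : ∀ n : N.subgroupOf M, (((μ.comp M.subtype) n : ℂˣ) : ℂ) =
        Cfsg.detChar (toSubgroupOf N M ϑ) n := by
      intro n
      rw [detChar_toSubgroupOf hNM (IsIrrCharacter.isCharacter hϑ)]
      exact hμ ⟨(n : M), Subgroup.mem_subgroupOf.mp n.2⟩
    have hext := ih _ hlt M (N.subgroupOf M) rfl (solvable_quotient_subgroupOf N M hsolv)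
      (toSubgroupOf N M ϑ) hϑ' hinv' d hd' hcop' (μ.comp M.subtype) hμ'
    have hlin : Cfsg.IsCharacter M (fun m => (((μ.comp M.subtype) m : ℂˣ) : ℂ)) ∧
        (fun m => (((μ.comp M.subtype) m : ℂˣ) : ℂ)) 1 = 1 :=
      ⟨IsIrrCharacter.isCharacter (isIrrCharacter_of_hom _), by simp⟩
    obtain ⟨ψ, ⟨hψ, hψN, hψdet⟩, huniq⟩ := existsUnique_extension_det (N.subgroupOf M) hϑ' d hd'
      hcop' hext _ hlin hμ'
    have hψinv : ∀ g : G, conjFun M g ψ = ψ := by
      intro g
      apply huniq
      refine ⟨IsIrrCharacter.conjFun M hψ g, ?_, ?_⟩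
      · intro n
        have h1 := congrFun (hinv g) ⟨(n : M), Subgroup.mem_subgroupOf.mp n.2⟩
        rw [conjFun_apply] at h1 ⊢
        have h2 := hψN ⟨⟨g⁻¹ * ((n : M) : G) * g, by
          simpa using hMn.conj_mem _ (n : M).2 g⁻¹⟩, by
          rw [Subgroup.mem_subgroupOf]
          simpa using hN.conj_mem _ (Subgroup.mem_subgroupOf.mp n.2) g⁻¹⟩
        exact h2.trans h1
      · rw [conjFun_eq_comp]
        have h1 := detChar_comp_hom (MulAut.conjNormal g⁻¹ : M ≃* M).toMonoidHom
          (IsIrrCharacter.isCharacter hψ)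
        have h2 : (ψ ∘ (MulAut.conjNormal g⁻¹ : M ≃* M)) =
          fun h : M => ψ ((MulAut.conjNormal g⁻¹ : M ≃* M).toMonoidHom h) := rfl
        rw [h2, h1, hψdet]
        funext m
        simp
    have hcyc : IsCyclic (G ⧸ M) := by
      have : Fact M.index.Prime := ⟨hMp⟩
      exact isCyclic_of_prime_card (p := M.index) (by rw [Subgroup.index])
    obtain ⟨χ, hχ, hχM⟩ := exists_extension_of_cyclic_quotient M hcyc hψ hψinv
    refine ⟨χ, hχ, fun n => ?_⟩
    have h1 := hχM ⟨n, hNM n.2⟩
    have h2 := hψN ⟨⟨n, hNM n.2⟩, Subgroup.mem_subgroupOf.mpr n.2⟩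
    exact h1.trans h2

end Cfsg.Agent.Lib.Helper13
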