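import Mathlib
import Cfsg.Agent.Lib.Helper13.DetExt2
import Cfsg.Agent.Lib.Helper13.CentralExt3

set_option autoImplicit false
set_option linter.unusedSectionVars false

namespace Cfsg.Agent.Lib.Helper13

open Cfsg.Agent.Lib.Helper2 Cfsg.Agent.Lib.Lead
open scoped ComplexConjugate

/-- existence of a subgroup `P ≥ N` with `P/N` a Sylow `p`-subgroup of `G/N` -/
theorem exists_sylow_over {G : Type*} [Group G] [Finite G] (N : Subgroup G) [hN : N.Normal]
    (p : ℕ) (hp : p.Prime) :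
    ∃ P : Subgroup G, N ≤ P ∧ Nat.Coprime P.index p ∧ ∃ k : ℕ, N.relIndex P = p ^ k := by
  have : Fact p.Prime := ⟨hp⟩
  obtain ⟨S⟩ : Nonempty (Sylow p (G ⧸ N)) := inferInstance
  set P : Subgroup G := (S : Subgroup (G ⧸ N)).comap (QuotientGroup.mk' N) with hP
  have hNP : N ≤ P := by
    intro n hn
    rw [hP, Subgroup.mem_comap]
    have : QuotientGroup.mk' N n = 1 := (QuotientGroup.eq_one_iff n).mpr hn
    rw [this]
    exact Subgroup.one_mem _
  have hPi : P.index = (S : Subgroup (G ⧸ N)).index :=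
    Subgroup.index_comap_of_surjective _ (QuotientGroup.mk'_surjective N)
  refine ⟨P, hNP, ?_, ?_⟩
  · rw [hPi, Nat.coprime_comm, Nat.Prime.coprime_iff_not_dvd hp]
    exact S.not_dvd_index
  · obtain ⟨k, hk⟩ := (IsPGroup.iff_card.mp S.2)
    refine ⟨k, ?_⟩
    rw [← hk]
    have h1 := Subgroup.relIndex_mul_index hNP
    have h2 := Subgroup.card_mul_index (S : Subgroup (G ⧸ N))
    rw [← Subgroup.index_eq_card N, ← hPi] at h2
    have h3 : P.index ≠ 0 := Subgroup.index_ne_zero_of_finite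
    exact Nat.eq_of_mul_eq_mul_right (Nat.pos_of_ne_zero h3) (h1.trans h2.symm)

/-- **Gallagher's extension theorem**: no solvability assumption. -/
theorem exists_extension_of_det {G : Type*} [Group G] [Finite G] (N : Subgroup G) [hN : N.Normal]
    {ϑ : N → ℂ} (hϑ : Cfsg.IsIrrCharacter N ϑ) (hinv : ∀ g : G, conjFun N g ϑ = ϑ) (d : ℕ)
    (hd : ϑ 1 = d) (hcop : Nat.Coprime N.index d) (μ : G →* ℂˣ)
    (hμ : ∀ n : N, (μ n : ℂ) = Cfsg.detChar ϑ n) :
    ∃ χ : G → ℂ, Cfsg.IsIrrCharacter G χ ∧ ∀ n : N, χ n = ϑ n := by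
  cases nonempty_fintype G
  apply exists_extension_of_sylow_extensions N hϑ hinv
  intro p hp
  have : Fact p.Prime := ⟨hp⟩
  obtain ⟨P, hNP, hPi, k, hk⟩ := exists_sylow_over N p hp
  have hsolv : Group.IsSolvable (P ⧸ N.subgroupOf P) := by
    have hpg : IsPGroup p (P ⧸ N.subgroupOf P) := by
      apply IsPGroup.of_card (n := k)
      rw [← Subgroup.index_eq_card]
      exact hk
    have := hpg.isNilpotent
    infer_instance
  have hrel : N.relIndex P * P.index = N.index := Subgroup.relIndex_mul_index hNP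
  have hcop' : Nat.Coprime (N.subgroupOf P).index d :=
    Nat.Coprime.coprime_dvd_left (Dvd.intro _ hrel) hcop
  have hμ' : ∀ n : N.subgroupOf P, (((μ.comp P.subtype) n : ℂˣ) : ℂ) =
      Cfsg.detChar (toSubgroupOf N P ϑ) n := by
    intro n
    rw [detChar_toSubgroupOf hNP (IsIrrCharacter.isCharacter hϑ)]
    exact hμ ⟨(n : P), Subgroup.mem_subgroupOf.mp n.2⟩
  obtain ⟨η, hη, hηN⟩ := exists_extension_of_det_aux _ P (N.subgroupOf P) rfl hsolv
    (toSubgroupOf N P ϑ) (IsIrrCharacter.toSubgroupOf hNP hϑ)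
    (fun t => by rw [conjFun_toSubgroupOf, hinv]) d hd hcop' (μ.comp P.subtype) hμ'
  exact ⟨P, hNP, η, hPi, ⟨k, hk⟩, hη,
    fun n => hηN ⟨⟨n, hNP n.2⟩, Subgroup.mem_subgroupOf.mpr n.2⟩⟩

end Cfsg.Agent.Lib.Helper13
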