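import Mathlib
import Cfsg.Prelude.Def_Characters
import Cfsg.Agent.Lib.Helper13.CharTools

set_option autoImplicit false
set_option linter.style.haveILetI false
set_option linter.unusedSectionVars false

namespace Cfsg.Agent.Lib.Helper13

open Cfsg.Agent.Lib.Helper2
open scoped ComplexConjugate

variable {F : Type*} [Field F] [Fintype F] {G : Type*} [Group G]

/-- there is a primitive additive character on a finite field -/
theorem exists_primitive_addChar : ∃ ψ : AddChar F ℂ, ψ.IsPrimitive := by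
  obtain ⟨ψ, hψ⟩ := (AddChar.exists_apply_ne_zero (α := F) (a := 1)).mpr one_ne_zero
  refine ⟨ψ, AddChar.IsPrimitive.of_ne_one ?_⟩
  intro h
  apply hψ
  rw [h]
  simp

/-- The multiplicity of the additive character `x ↦ ψ (a x)` in the restriction of `χ` along
`u : F → G`. -/
noncomputable def mult (ψ : AddChar F ℂ) (u : F → G) (χ : G → ℂ) (a : F) : ℂ :=
  (Fintype.card F : ℂ)⁻¹ * ∑ x : F, χ (u x) * ψ (-(a * x))

theorem card_F_ne_zero : (Fintype.card F : ℂ) ≠ 0 := by
  exact_mod_cast Fintype.card_ne_zero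

theorem mult_add (ψ : AddChar F ℂ) (u : F → G) (χ₁ χ₂ : G → ℂ) (a : F) :
    mult ψ u (χ₁ + χ₂) a = mult ψ u χ₁ a + mult ψ u χ₂ a := by
  simp only [mult, Pi.add_apply, add_mul, Finset.sum_add_distrib, mul_add]

theorem mult_sub (ψ : AddChar F ℂ) (u : F → G) (χ₁ χ₂ : G → ℂ) (a : F) :
    mult ψ u (χ₁ - χ₂) a = mult ψ u χ₁ a - mult ψ u χ₂ a := by
  simp only [mult, Pi.sub_apply, sub_mul, Finset.sum_sub_distrib, mul_sub]

theorem mult_nat (ψ : AddChar F ℂ) (u : F → G) (hu : ∀ x y, u (x + y) = u x * u y)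
    {χ : G → ℂ} (hχ : Cfsg.IsCharacter G χ) (a : F) : ∃ n : ℕ, mult ψ u χ a = n := by
  classical
  let f : Multiplicative F →* G := MonoidHom.mk' (fun x => u x.toAdd) (fun x y => hu _ _)
  let lam : Multiplicative F →* ℂˣ := ((AddChar.mulShift ψ a).toMonoidHom).toHomUnits
  obtain ⟨n, hn⟩ := IsCharacter.classInner_nat (IsCharacter.comp_hom f hχ)
    (IsIrrCharacter.isCharacter (isIrrCharacter_of_hom lam))
  refine ⟨n, ?_⟩
  rw [← hn, Cfsg.classInner, mult]
  congr 1
  · rw [Nat.card_eq_fintype_card, Fintype.card_multiplicative]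
  · refine Fintype.sum_equiv Multiplicative.ofAdd _ _ fun x => ?_
    have h1 : ((lam (Multiplicative.ofAdd x) : ℂˣ) : ℂ) = ψ (a * x) := by
      simp [lam, MonoidHom.coe_toHomUnits, AddChar.mulShift_apply]
    rw [h1, AddChar.map_neg_eq_conj]
    rfl

theorem apply_eq_sum_mult {ψ : AddChar F ℂ} (hψ : ψ.IsPrimitive) (u : F → G) (χ : G → ℂ) (x : F) :
    χ (u x) = ∑ a, mult ψ u χ a * ψ (a * x) := by
  classical
  simp only [mult]
  have h1 : ∀ a : F, (Fintype.card F : ℂ)⁻¹ * (∑ y : F, χ (u y) * ψ (-(a * y))) * ψ (a * x) =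
      (Fintype.card F : ℂ)⁻¹ * ∑ y : F, χ (u y) * ψ (a * (x - y)) := by
    intro a
    rw [mul_assoc, Finset.sum_mul]
    congr 1
    refine Finset.sum_congr rfl fun y _ => ?_
    rw [mul_assoc, ← AddChar.map_add_eq_mul]
    congr 2
    ring
  simp_rw [h1]
  rw [← Finset.mul_sum, Finset.sum_comm]
  simp_rw [← Finset.mul_sum, AddChar.sum_mulShift _ hψ]
  rw [Finset.sum_eq_single x]
  · rw [sub_self, if_pos rfl, mul_comm (χ (u x)), ← mul_assoc, inv_mul_cancel₀ card_F_ne_zero,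
      one_mul]
  · intro y _ hy
    rw [if_neg (sub_ne_zero.mpr (Ne.symm hy)), Nat.cast_zero, mul_zero]
  · intro h; exact absurd (Finset.mem_univ _) h

theorem mult_mul_of_conj (ψ : AddChar F ℂ) (u : F → G) {χ : G → ℂ} (hχ : Cfsg.IsClassFunction G χ)
    (c : F) (hc : c ≠ 0) (h : ∀ x, IsConj (u x) (u (c * x))) (a : F) :
    mult ψ u χ (a * c) = mult ψ u χ a := by
  simp only [mult]
  congr 1
  refine Fintype.sum_equiv (Equiv.mulLeft₀ c hc) _ _ fun x => ?_
  change χ (u x) * ψ (-(a * c * x)) = χ (u (c * x)) * ψ (-(a * (c * x)))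
  rw [IsClassFunction.eq_of_isConj hχ (h x), mul_assoc]

theorem sum_mult_mul_conj [Fintype G] [Fintype (Cfsg.IrrCharacter G)] (ψ : AddChar F ℂ) (u : F → G)
    (a b : F) [∀ x y, Decidable (IsConj (u x) (u y))] :
    ∑ χ : Cfsg.IrrCharacter G, mult ψ u χ a * conj (mult ψ u χ b) =
      ((Fintype.card F : ℂ)⁻¹) ^ 2 * ∑ x : F, ∑ y : F, ψ (-(a * x)) * ψ (b * y) *
        (if IsConj (u x) (u y) then (Nat.card (Subgroup.centralizer ({u x} : Set G)) : ℂ) else 0) := by
  simp only [mult, map_mul, map_inv₀, Complex.conj_natCast, map_sum]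
  have h1 : ∀ χ : Cfsg.IrrCharacter G,
      (Fintype.card F : ℂ)⁻¹ * (∑ x : F, (χ : G → ℂ) (u x) * ψ (-(a * x))) *
        ((Fintype.card F : ℂ)⁻¹ * ∑ y : F, conj ((χ : G → ℂ) (u y)) * conj (ψ (-(b * y)))) =
      ((Fintype.card F : ℂ)⁻¹) ^ 2 * ∑ x : F, ∑ y : F, ψ (-(a * x)) * ψ (b * y) *
        ((χ : G → ℂ) (u x) * conj ((χ : G → ℂ) (u y))) := by
    intro χ
    rw [mul_mul_mul_comm, ← sq, Finset.sum_mul_sum]
    congr 1
    refine Finset.sum_congr rfl fun x _ => Finset.sum_congr rfl fun y _ => ?_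
    rw [← AddChar.map_neg_eq_conj, neg_neg]
    ring
  simp_rw [h1]
  rw [← Finset.mul_sum, Finset.sum_comm]
  congr 1
  refine Finset.sum_congr rfl fun x _ => ?_
  rw [Finset.sum_comm]
  refine Finset.sum_congr rfl fun y _ => ?_
  rw [← Finset.mul_sum, column_orthogonality]

/-- sum of a primitive character over the non-zero elements -/
theorem sum_ne_zero_addChar {ψ : AddChar F ℂ} (hψ : ψ.IsPrimitive) [DecidableEq F] (a : F) :
    ∑ x ∈ Finset.univ.erase (0 : F), ψ (a * x) = (if a = 0 then (Fintype.card F : ℂ) else 0) - 1 := by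
  have h := AddChar.sum_mulShift a hψ
  rw [← Finset.add_sum_erase _ _ (Finset.mem_univ (0 : F))] at h
  simp only [zero_mul, AddChar.map_zero_eq_one] at h
  push_cast at h
  rw [← h]
  simp only [mul_comm a]
  ring

end Cfsg.Agent.Lib.Helper13
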