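import Mathlib
import Cfsg.Prelude.Def_ParabolicCharacters
import Cfsg.Agent.Lib.Helper13.UnipMult
import Cfsg.Agent.Lib.Helper13.Borel

set_option autoImplicit false
set_option linter.style.haveILetI false
set_option linter.unusedSectionVars false

namespace Cfsg.Agent.Lib.Helper13

open Cfsg.Agent.Lib.Helper2 Matrix
open scoped ComplexConjugate

variable {F : Type*} [Field F] [Fintype F] [DecidableEq F]

theorem sum_units_eq (f : F → ℂ) (h0 : f 0 = 0) : ∑ a : Fˣ, f a = ∑ a : F, f a := by
  apply Fintype.sum_of_injective (fun a : Fˣ => (a : F)) Units.val_injective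
  · intro i hi
    by_cases h : i = 0
    · rw [h, h0]
    · exact absurd ⟨Units.mk0 i h, rfl⟩ hi
  · intro i; rfl

theorem card_units_cast : (Fintype.card Fˣ : ℂ) = (Fintype.card F : ℂ) - 1 := by
  rw [Fintype.card_units, Nat.cast_sub Fintype.card_pos]
  simp

open Classical in
theorem sum_units_mulChar (α α' : MulChar F ℂ) :
    ∑ a : Fˣ, α a * conj (α' a) = if α = α' then ((Fintype.card F : ℂ) - 1) else 0 := by
  have h1 : ∀ a : F, α a * conj (α' a) = (α * α'⁻¹) a := by
    intro a
    rw [MulChar.mul_apply, ← MulChar.star_apply']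
    rfl
  rw [sum_units_eq (fun a => α a * conj (α' a)) (by rw [MulChar.map_zero, zero_mul])]
  simp_rw [h1]
  split_ifs with h
  · rw [h, mul_inv_cancel, MulChar.sum_one_eq_card_units, card_units_cast]
  · apply MulChar.sum_eq_zero_of_ne_one
    intro hc
    exact h (mul_inv_eq_one.mp hc)

/-- the explicit principal series function on matrices -/
noncomputable def piFun (α β : MulChar F ℂ) (M : Matrix (Fin 2) (Fin 2) F) : ℂ :=
  (if M 1 0 = 0 then α (M 0 0) * β (M 1 1) else 0) +
  ∑ t : F, if -(M 0 0 * t + M 0 1) + t * (M 1 0 * t + M 1 1) = 0 then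
    α (M 1 0 * t + M 1 1) * β (M 0 0 - t * M 1 0) else 0

/-- the linear character of the Borel subgroup -/
noncomputable def thetaGL (α β : MulChar F ℂ) : Cfsg.upperTriangularGL 2 F → ℂ :=
  fun b => α (((b : GL (Fin 2) F) : Matrix (Fin 2) (Fin 2) F) 0 0) *
    β (((b : GL (Fin 2) F) : Matrix (Fin 2) (Fin 2) F) 1 1)

noncomputable def thetaGLHom (α β : MulChar F ℂ) : Cfsg.upperTriangularGL 2 F →* ℂ where
  toFun := thetaGL α β
  map_one' := by simp [thetaGL]
  map_mul' := by
    intro b c
    have hb := (mem_B_iff _).mp b.2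
    have hc := (mem_B_iff _).mp c.2
    simp only [thetaGL, Subgroup.coe_mul, Units.val_mul, Matrix.mul_apply, Fin.sum_univ_two, hb, hc,
      mul_zero, zero_mul, add_zero, zero_add, map_mul]
    ring

theorem thetaGL_isIrr (α β : MulChar F ℂ) :
    Cfsg.IsIrrCharacter (Cfsg.upperTriangularGL 2 F) (thetaGL α β) :=
  isIrrCharacter_of_hom (thetaGLHom α β).toHomUnits

theorem thetaGL_isClassFunction (α β : MulChar F ℂ) :
    Cfsg.IsClassFunction (Cfsg.upperTriangularGL 2 F) (thetaGL α β) :=
  IsCharacter.isClassFunction (IsIrrCharacter.isCharacter (thetaGL_isIrr α β))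

theorem extend_thetaGL (α β : MulChar F ℂ) (g : GL (Fin 2) F) :
    Cfsg.extendByZero (Cfsg.upperTriangularGL 2 F) (thetaGL α β) g =
      if (g : Matrix (Fin 2) (Fin 2) F) 1 0 = 0 then
        α ((g : Matrix (Fin 2) (Fin 2) F) 0 0) * β ((g : Matrix (Fin 2) (Fin 2) F) 1 1) else 0 := by
  split_ifs with h
  · rw [extendByZero_mem _ _ ((mem_B_iff g).mpr h)]
    rfl
  · rw [extendByZero_not_mem _ _ (fun hc => h ((mem_B_iff g).mp hc))]

theorem indFun_thetaGL (α β : MulChar F ℂ) (g : GL (Fin 2) F) :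
    Cfsg.indFun (Cfsg.upperTriangularGL 2 F) (thetaGL α β) g =
      piFun α β (g : Matrix (Fin 2) (Fin 2) F) := by
  rw [indFun_eq_sum_reps _ rep rep_bijective _ (thetaGL_isClassFunction α β), Fintype.sum_option,
    piFun]
  congr 1
  · rw [extend_thetaGL, Units.val_mul, Units.val_mul, rep_inv_coe, rep_coe, conj_rep_none]
  · refine Finset.sum_congr rfl fun t _ => ?_
    rw [extend_thetaGL, Units.val_mul, Units.val_mul, rep_inv_coe, rep_coe, conj_rep_some]
    simp

/-- upper triangular matrices -/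
def bMat (a d c : F) : Matrix (Fin 2) (Fin 2) F := !![a, c; 0, d]

/-- parametrisation of the Borel subgroup -/
noncomputable def bGL (p : Fˣ × Fˣ × F) : Cfsg.upperTriangularGL 2 F :=
  ⟨Matrix.GeneralLinearGroup.mkOfDetNeZero (bMat (p.1 : F) (p.2.1 : F) p.2.2)
    (by simp [bMat, Matrix.det_fin_two]), by
      rw [mem_B_iff]
      change bMat (p.1 : F) p.2.1 p.2.2 1 0 = 0
      simp [bMat]⟩

theorem bGL_coe (p : Fˣ × Fˣ × F) :
    ((bGL p : GL (Fin 2) F) : Matrix (Fin 2) (Fin 2) F) = bMat (p.1 : F) (p.2.1 : F) p.2.2 := rfl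

theorem bGL_bijective : Function.Bijective (bGL (F := F)) := by
  constructor
  · rintro ⟨a, d, c⟩ ⟨a', d', c'⟩ h
    have h1 := congrArg (fun b : Cfsg.upperTriangularGL 2 F =>
      ((b : GL (Fin 2) F) : Matrix (Fin 2) (Fin 2) F)) h
    simp only [bGL_coe, bMat] at h1
    have e00 := congrFun (congrFun h1 0) 0
    have e01 := congrFun (congrFun h1 0) 1
    have e11 := congrFun (congrFun h1 1) 1
    simp at e00 e01 e11
    rw [Units.ext e00, Units.ext e11, e01]
  · intro b
    have hb := (mem_B_iff _).mp b.2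
    have hdet : ((b : GL (Fin 2) F) : Matrix (Fin 2) (Fin 2) F).det ≠ 0 :=
      (Matrix.isUnits_det_units (b : GL (Fin 2) F)).ne_zero
    rw [Matrix.det_fin_two, hb, mul_zero, sub_zero] at hdet
    refine ⟨(Units.mk0 _ (left_ne_zero_of_mul hdet), Units.mk0 _ (right_ne_zero_of_mul hdet),
      ((b : GL (Fin 2) F) : Matrix (Fin 2) (Fin 2) F) 0 1), ?_⟩
    apply Subtype.ext
    apply Units.ext
    rw [bGL_coe]
    ext i j
    fin_cases i <;> fin_cases j <;> simp [bMat, hb]

theorem sum_B [Fintype (Cfsg.upperTriangularGL 2 F)] (f : Matrix (Fin 2) (Fin 2) F → ℂ) :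
    ∑ b : Cfsg.upperTriangularGL 2 F, f ((b : GL (Fin 2) F) : Matrix (Fin 2) (Fin 2) F) =
      ∑ a : Fˣ, ∑ d : Fˣ, ∑ c : F, f (bMat a d c) := by
  rw [← Fintype.sum_bijective _ bGL_bijective (fun p => f (bMat (p.1 : F) (p.2.1 : F) p.2.2))
    (fun b : Cfsg.upperTriangularGL 2 F => f ((b : GL (Fin 2) F) : Matrix (Fin 2) (Fin 2) F))
    (fun p => by rw [bGL_coe])]
  rw [Fintype.sum_prod_type]
  refine Finset.sum_congr rfl fun a _ => ?_
  rw [Fintype.sum_prod_type]

theorem card_B : (Nat.card (Cfsg.upperTriangularGL 2 F) : ℂ) =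
    ((Fintype.card F : ℂ) - 1) ^ 2 * (Fintype.card F : ℂ) := by
  rw [← Nat.card_congr (Equiv.ofBijective _ (bGL_bijective (F := F)))]
  simp only [Nat.card_eq_fintype_card, Fintype.card_prod, Nat.cast_mul, card_units_cast]
  ring

theorem piFun_bMat (α β : MulChar F ℂ) (a d c : F) :
    piFun α β (bMat a d c) = α a * β d +
      (∑ t : F, if c = t * (d - a) then (1 : ℂ) else 0) * (α d * β a) := by
  simp only [piFun, bMat]
  simp only [Matrix.of_apply, Matrix.cons_val', Matrix.cons_val_zero, Matrix.cons_val_one,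
    Matrix.cons_val_fin_one, if_true, zero_mul, zero_add, mul_zero, sub_zero]
  congr 1
  rw [Finset.sum_mul]
  refine Finset.sum_congr rfl fun t _ => ?_
  have : (-(a * t + c) + t * d = 0) ↔ c = t * (d - a) := by
    constructor
    · intro h; linear_combination -h
    · intro h; rw [h]; ring
  simp only [this]
  split_ifs <;> simp

theorem sum_piFun_bMat (α β : MulChar F ℂ) (a d : F) :
    ∑ c : F, piFun α β (bMat a d c) = (Fintype.card F : ℂ) * (α a * β d + α d * β a) := by
  simp_rw [piFun_bMat]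
  rw [Finset.sum_add_distrib, ← Finset.sum_mul (s := Finset.univ)
    (f := fun c : F => ∑ t : F, if c = t * (d - a) then (1 : ℂ) else 0), Finset.sum_comm]
  simp [Finset.card_univ]
  ring

open Classical in
/-- inner products of principal series characters of `GL₂` -/
theorem classInner_indFun_thetaGL (α β α' β' : MulChar F ℂ) :
    Cfsg.classInner (Cfsg.indFun (Cfsg.upperTriangularGL 2 F) (thetaGL α β))
      (Cfsg.indFun (Cfsg.upperTriangularGL 2 F) (thetaGL α' β')) =
      (if α = α' ∧ β = β' then 1 else 0) + (if α = β' ∧ β = α' then 1 else 0) := by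
  rw [frobenius_reciprocity _ _ _ (indFun_isClassFunction _ _), Cfsg.classInner]
  simp_rw [indFun_thetaGL]
  simp only [thetaGL]
  rw [sum_B (fun M => α (M 0 0) * β (M 1 1) * conj (piFun α' β' M))]
  have h1 : ∀ a d : Fˣ, ∑ c : F, α (bMat (a : F) d c 0 0) * β (bMat (a : F) d c 1 1) *
      conj (piFun α' β' (bMat (a : F) d c)) = (Fintype.card F : ℂ) *
        ((α a * conj (α' a)) * (β d * conj (β' d)) + (α a * conj (β' a)) * (β d * conj (α' d))) := by
    intro a d
    have : ∀ c : F, α (bMat (a : F) d c 0 0) * β (bMat (a : F) d c 1 1) *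
      conj (piFun α' β' (bMat (a : F) d c)) = α a * β d * conj (piFun α' β' (bMat (a : F) d c)) := by
      intro c
      simp [bMat]
    simp_rw [this]
    rw [← Finset.mul_sum, ← map_sum, sum_piFun_bMat]
    simp only [map_mul, map_add, Complex.conj_natCast]
    ring
  simp_rw [h1]
  simp_rw [← Finset.mul_sum, Finset.sum_add_distrib, ← Finset.mul_sum, ← Finset.sum_mul,
    sum_units_mulChar]
  rw [card_B]
  have hq : (Fintype.card F : ℂ) ≠ 0 := card_F_ne_zero
  have hq1 : (Fintype.card F : ℂ) - 1 ≠ 0 := by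
    rw [← card_units_cast]
    exact_mod_cast Fintype.card_ne_zero
  have key : ∀ (p1 p2 p3 p4 : Prop) [Decidable p1] [Decidable p2] [Decidable p3] [Decidable p4]
      [Decidable (p1 ∧ p2)] [Decidable (p3 ∧ p4)],
      (((Fintype.card F : ℂ) - 1) ^ 2 * (Fintype.card F : ℂ))⁻¹ * ((Fintype.card F : ℂ) *
        (((if p1 then (Fintype.card F : ℂ) - 1 else 0) * if p2 then (Fintype.card F : ℂ) - 1 else 0) +
          (if p3 then (Fintype.card F : ℂ) - 1 else 0) * if p4 then (Fintype.card F : ℂ) - 1 else 0)) =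
      (if p1 ∧ p2 then (1 : ℂ) else 0) + if p3 ∧ p4 then (1 : ℂ) else 0 := by
    intro p1 p2 p3 p4 _ _ _ _ _ _
    by_cases e1 : p1 <;> by_cases e2 : p2 <;> by_cases e3 : p3 <;> by_cases e4 : p4 <;>
      simp only [e1, e2, e3, e4, if_true, if_false, and_true, and_false, true_and, false_and,
        mul_zero, zero_mul, add_zero, zero_add] <;>
      field_simp <;> ring
  exact key _ _ _ _

end Cfsg.Agent.Lib.Helper13
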