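import Mathlib
import Cfsg.Agent.Lib.Helper13.PS
import Cfsg.Agent.S2330
import Cfsg.Agent.S2305

set_option autoImplicit false
set_option linter.style.haveILetI false
set_option linter.unusedSectionVars false

namespace Cfsg.Agent.Lib.Helper13

open Cfsg.Agent.Lib.Helper2 Matrix
open scoped ComplexConjugate

variable {F : Type*} [Field F] [Fintype F] [DecidableEq F]

/-- transitive case of the multiplicities: value at the identity -/
theorem apply_u_zero {G : Type*} [Group G] {ψ : AddChar F ℂ} (hψ : ψ.IsPrimitive) (u : F → G)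
    (χ : G → ℂ) (htr : ∀ a, a ≠ 0 → mult ψ u χ a = mult ψ u χ 1) :
    χ (u 0) = mult ψ u χ 0 + ((Fintype.card F : ℂ) - 1) * mult ψ u χ 1 := by
  rw [apply_eq_sum_mult hψ u χ 0, ← Finset.add_sum_erase _ _ (Finset.mem_univ (0 : F))]
  simp only [mul_zero, AddChar.map_zero_eq_one, mul_one]
  congr 1
  rw [Finset.sum_congr rfl (fun a ha => htr a (Finset.ne_of_mem_erase ha)), Finset.sum_const,
    Finset.card_erase_of_mem (Finset.mem_univ _), Finset.card_univ, nsmul_eq_mul,
    Nat.cast_sub Fintype.card_pos]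
  simp

/-- transitive case of the multiplicities: value at a non-identity element -/
theorem apply_u_ne {G : Type*} [Group G] {ψ : AddChar F ℂ} (hψ : ψ.IsPrimitive) (u : F → G)
    (χ : G → ℂ) (htr : ∀ a, a ≠ 0 → mult ψ u χ a = mult ψ u χ 1) (x : F) (hx : x ≠ 0) :
    χ (u x) = mult ψ u χ 0 - mult ψ u χ 1 := by
  rw [apply_eq_sum_mult hψ u χ x, ← Finset.add_sum_erase _ _ (Finset.mem_univ (0 : F))]
  simp only [zero_mul, AddChar.map_zero_eq_one, mul_one]
  rw [Finset.sum_congr rfl (fun a ha => by rw [htr a (Finset.ne_of_mem_erase ha)]),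
    ← Finset.mul_sum]
  have := sum_ne_zero_addChar hψ x
  simp only [mul_comm x] at this
  rw [this, if_neg hx]
  ring

/-- upper unitriangular matrices in `GL₂` -/
noncomputable def uGL (x : F) : GL (Fin 2) F :=
  Matrix.GeneralLinearGroup.mkOfDetNeZero (bMat 1 1 x) (by simp [bMat, Matrix.det_fin_two])

theorem uGL_coe (x : F) : (uGL x : Matrix (Fin 2) (Fin 2) F) = bMat 1 1 x := rfl

theorem uGL_add (x y : F) : uGL (x + y) = uGL x * uGL y := by
  apply Units.ext
  rw [Units.val_mul, uGL_coe, uGL_coe, uGL_coe]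
  ext i j
  fin_cases i <;> fin_cases j <;> simp [bMat, Matrix.mul_apply, Fin.sum_univ_two, add_comm]

theorem uGL_zero : uGL (0 : F) = 1 := by
  apply Units.ext
  rw [uGL_coe]
  ext i j
  fin_cases i <;> fin_cases j <;> simp [bMat]

theorem uGL_conj (c : F) (hc : c ≠ 0) (x : F) : IsConj (uGL x) (uGL (c * x)) := by
  rw [isConj_GL_iff]
  refine ⟨!![c, 0; 0, 1], by simpa [Matrix.det_fin_two] using hc, ?_⟩
  rw [uGL_coe, uGL_coe]
  ext i j
  fin_cases i <;> fin_cases j <;> simp [bMat, Matrix.mul_apply, Fin.sum_univ_two]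

theorem uGL_eq_one_iff (x : F) : uGL x = 1 ↔ x = 0 := by
  constructor
  · intro h
    have := congrArg (fun g : GL (Fin 2) F => (g : Matrix (Fin 2) (Fin 2) F) 0 1) h
    simpa [uGL_coe, bMat] using this
  · rintro rfl; exact uGL_zero

theorem uGL_isConj_iff (x y : F) : IsConj (uGL x) (uGL y) ↔ (x = 0 ↔ y = 0) := by
  constructor
  · intro h
    constructor
    · rintro rfl
      rw [uGL_zero, isConj_one_right] at h
      exact (uGL_eq_one_iff y).mp h
    · rintro rfl
      rw [uGL_zero, isConj_one_left] at h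
      exact (uGL_eq_one_iff x).mp h
  · intro h
    by_cases hx : x = 0
    · rw [hx, h.mp hx]
    · have hy : y ≠ 0 := fun hy => hx (h.mpr hy)
      have := uGL_conj (y / x) (div_ne_zero hy hx) x
      rwa [div_mul_cancel₀ _ hx] at this

theorem card_centralizer_uGL (x : F) (hx : x ≠ 0) :
    (Nat.card (Subgroup.centralizer ({uGL x} : Set (GL (Fin 2) F))) : ℂ) =
      (Fintype.card F : ℂ) * ((Fintype.card F : ℂ) - 1) := by
  rw [card_centralizer_GL (uGL x) (by left; simpa [uGL_coe, bMat] using hx)]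
  have e : {xy : F × F // xy.1 ^ 2 + xy.1 * xy.2 * (uGL x : Matrix (Fin 2) (Fin 2) F).trace +
        xy.2 ^ 2 * (uGL x : Matrix (Fin 2) (Fin 2) F).det ≠ 0} ≃ Fˣ × F :=
    { toFun := fun p => (Units.mk0 (p.1.1 + p.1.2) (by
        intro h0
        apply p.2
        simp only [uGL_coe, bMat, Matrix.trace_fin_two, Matrix.det_fin_two]
        simp
        linear_combination (p.1.1 + p.1.2) * h0), p.1.2)
      invFun := fun p => ⟨((p.1 : F) - p.2, p.2), by
        simp only [uGL_coe, bMat, Matrix.trace_fin_two, Matrix.det_fin_two]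
        simp
        have : ((p.1 : F) - p.2) ^ 2 + ((p.1 : F) - p.2) * p.2 * (1 + 1) + p.2 ^ 2 = (p.1 : F) ^ 2 := by
          ring
        rw [this]
        exact pow_ne_zero 2 p.1.ne_zero⟩
      left_inv := by
        rintro ⟨⟨a, b⟩, h⟩
        simp
      right_inv := by
        rintro ⟨a, b⟩
        apply Prod.ext
        · apply Units.ext; simp
        · rfl }
  rw [Nat.card_congr e, Nat.card_eq_fintype_card, Fintype.card_prod, Nat.cast_mul, card_units_cast]
  ring

theorem card_GL2 : (Nat.card (GL (Fin 2) F) : ℂ) =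
    (Fintype.card F : ℂ) * ((Fintype.card F : ℂ) - 1) ^ 2 * ((Fintype.card F : ℂ) + 1) := by
  rw [Matrix.card_GL_field, Fin.prod_univ_two]
  have hq : 1 ≤ Fintype.card F := Fintype.card_pos
  have h1 : 1 ≤ Fintype.card F ^ 2 := Nat.one_le_pow _ _ hq
  have h2 : Fintype.card F ≤ Fintype.card F ^ 2 := by nlinarith
  simp only [Fin.val_zero, pow_zero, Fin.val_one, pow_one]
  rw [Nat.cast_mul, Nat.cast_sub h1, Nat.cast_sub h2]
  push_cast
  ring

/-- the orthogonality relations for the multiplicities on the unipotent subgroup of `GL₂` -/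
theorem sum_mult_GL [Fintype (Cfsg.IrrCharacter (GL (Fin 2) F))] {ψ : AddChar F ℂ}
    (hψ : ψ.IsPrimitive) (a b : F) :
    ∑ χ : Cfsg.IrrCharacter (GL (Fin 2) F), mult ψ uGL χ a * conj (mult ψ uGL χ b) =
      ((Fintype.card F : ℂ)⁻¹) ^ 2 * ((Fintype.card F : ℂ) * ((Fintype.card F : ℂ) - 1) ^ 2 *
        ((Fintype.card F : ℂ) + 1) + (Fintype.card F : ℂ) * ((Fintype.card F : ℂ) - 1) *
        (((if a = 0 then (Fintype.card F : ℂ) else 0) - 1) *
          ((if b = 0 then (Fintype.card F : ℂ) else 0) - 1))) := by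
  classical
  rw [sum_mult_mul_conj]
  congr 1
  rw [← Finset.add_sum_erase _ _ (Finset.mem_univ (0 : F))]
  congr 1
  · rw [Finset.sum_eq_single (0 : F)]
    · rw [if_pos (by rw [uGL_isConj_iff])]
      simp only [mul_zero, neg_zero, AddChar.map_zero_eq_one, one_mul]
      rw [uGL_zero, ← card_GL2]
      congr 1
      have : Subgroup.centralizer ({1} : Set (GL (Fin 2) F)) = ⊤ := by
        rw [Subgroup.centralizer_eq_top_iff_subset]
        simp
      rw [this, Nat.card_congr Subgroup.topEquiv.toEquiv]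
    · intro y _ hy
      rw [if_neg, mul_zero]
      rw [uGL_isConj_iff]
      intro h
      exact hy (h.mp rfl)
    · intro h; exact absurd (Finset.mem_univ _) h
  · have h1 : ∀ x ∈ Finset.univ.erase (0 : F), ∑ y : F, ψ (-(a * x)) * ψ (b * y) *
        (if IsConj (uGL x) (uGL y) then
          (Nat.card (Subgroup.centralizer ({uGL x} : Set (GL (Fin 2) F))) : ℂ) else 0) =
        (Fintype.card F : ℂ) * ((Fintype.card F : ℂ) - 1) * (ψ ((-a) * x) *
          ((if b = 0 then (Fintype.card F : ℂ) else 0) - 1)) := by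
      intro x hx
      have hx0 := Finset.ne_of_mem_erase hx
      rw [← sum_ne_zero_addChar hψ b, ← Finset.add_sum_erase _ _ (Finset.mem_univ (0 : F)),
        if_neg (by rw [uGL_isConj_iff]; intro h; exact hx0 (h.mpr rfl)), mul_zero, zero_add,
        Finset.mul_sum, Finset.mul_sum]
      refine Finset.sum_congr rfl fun y hy => ?_
      have hy0 := Finset.ne_of_mem_erase hy
      rw [if_pos (by rw [uGL_isConj_iff]; exact ⟨fun h => absurd h hx0, fun h => absurd h hy0⟩),
        card_centralizer_uGL x hx0, neg_mul]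
      ring
    rw [Finset.sum_congr rfl h1, ← Finset.mul_sum, ← Finset.sum_mul, sum_ne_zero_addChar hψ (-a)]
    simp only [neg_eq_zero]

/-! ### the families -/

/-- principal series functions -/
noncomputable def Pc (α β : MulChar F ℂ) : GL (Fin 2) F → ℂ :=
  Cfsg.indFun (Cfsg.upperTriangularGL 2 F) (thetaGL α β)

theorem Pc_apply (α β : MulChar F ℂ) (g : GL (Fin 2) F) :
    Pc α β g = piFun α β (g : Matrix (Fin 2) (Fin 2) F) := indFun_thetaGL α β g

theorem Pc_isCharacter (α β : MulChar F ℂ) : Cfsg.IsCharacter (GL (Fin 2) F) (Pc α β) :=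
  IsCharacter.indFun _ (IsIrrCharacter.isCharacter (thetaGL_isIrr α β))

theorem Pc_isIrr {α β : MulChar F ℂ} (h : α ≠ β) : Cfsg.IsIrrCharacter (GL (Fin 2) F) (Pc α β) :=
  Cfsg.Agent.S2304.result α β h

theorem Pc_eq_iff (α β α' β' : MulChar F ℂ) :
    Pc α β = Pc α' β' ↔ (α = α' ∧ β = β') ∨ (α = β' ∧ β = α') :=
  Cfsg.Agent.S2305.result α β α' β'

theorem Pc_comm (α β : MulChar F ℂ) : Pc α β = Pc β α :=
  (Pc_eq_iff α β β α).mpr (Or.inr ⟨rfl, rfl⟩)

open Classical in
theorem Pc_inner (α β α' β' : MulChar F ℂ) :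
    Cfsg.classInner (Pc α β) (Pc α' β') =
      (if α = α' ∧ β = β' then 1 else 0) + (if α = β' ∧ β = α' then 1 else 0) :=
  classInner_indFun_thetaGL α β α' β'

/-- linear characters -/
noncomputable def Lc (α : MulChar F ℂ) : GL (Fin 2) F → ℂ :=
  fun g => α (g : Matrix (Fin 2) (Fin 2) F).det

noncomputable def LcHom (α : MulChar F ℂ) : GL (Fin 2) F →* ℂ where
  toFun := Lc α
  map_one' := by simp [Lc]
  map_mul' := by intro g h; simp [Lc, Matrix.det_mul]

theorem Lc_isIrr (α : MulChar F ℂ) : Cfsg.IsIrrCharacter (GL (Fin 2) F) (Lc α) :=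
  isIrrCharacter_of_hom (LcHom α).toHomUnits

theorem Pc_inner_Lc (α : MulChar F ℂ) : Cfsg.classInner (Pc α α) (Lc α) = 1 := by
  classical
  rw [Pc, frobenius_reciprocity _ _ _
    (IsCharacter.isClassFunction (IsIrrCharacter.isCharacter (Lc_isIrr α)))]
  have : (fun b : Cfsg.upperTriangularGL 2 F => Lc α (b : GL (Fin 2) F)) = thetaGL α α := by
    funext b
    have hb := (mem_B_iff _).mp b.2
    simp only [Lc, thetaGL, Matrix.det_fin_two, hb, mul_zero, sub_zero, map_mul]
  rw [this, classInner_irr (thetaGL_isIrr α α) (thetaGL_isIrr α α), if_pos rfl]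

/-- Steinberg-type characters -/
noncomputable def Sc (α : MulChar F ℂ) : GL (Fin 2) F → ℂ := Pc α α - Lc α

theorem Sc_isIrr (α : MulChar F ℂ) : Cfsg.IsIrrCharacter (GL (Fin 2) F) (Sc α) := by
  apply isIrrCharacter_sub_of_norm_two (Pc_isCharacter α α) (Lc_isIrr α) _ (Pc_inner_Lc α)
  rw [Pc_inner, if_pos ⟨rfl, rfl⟩]
  norm_num

theorem Pc_inner_Sc (α : MulChar F ℂ) : Cfsg.classInner (Pc α α) (Sc α) = 1 := by
  rw [Sc, classInner_sub_right, Pc_inner_Lc, Pc_inner, if_pos ⟨rfl, rfl⟩]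
  norm_num

/-- an irreducible character lies in at most one principal series -/
theorem pair_eq_of_common {α β α' β' : MulChar F ℂ} {σ : GL (Fin 2) F → ℂ}
    (hσ : Cfsg.IsIrrCharacter (GL (Fin 2) F) σ) (h1 : Cfsg.classInner (Pc α β) σ ≠ 0)
    (h2 : Cfsg.classInner (Pc α' β') σ ≠ 0) : (α = α' ∧ β = β') ∨ (α = β' ∧ β = α') := by
  classical
  by_contra hcon
  push Not at hcon
  have h0 : Cfsg.classInner (Pc α β) (Pc α' β') = 0 := by
    rw [Pc_inner, if_neg (fun hc : α = α' ∧ β = β' => hcon.1 hc.1 hc.2),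
      if_neg (fun hc : α = β' ∧ β = α' => hcon.2 hc.1 hc.2), add_zero]
  rcases IsCharacter.constituent_eq_zero_of_orthogonal (Pc_isCharacter α β) (Pc_isCharacter α' β')
    h0 hσ with h | h
  · exact h1 h
  · exact h2 h

theorem Lc_injective : Function.Injective (Lc (F := F)) := by
  intro α β h
  have h1 : Cfsg.classInner (Pc α α) (Lc α) ≠ 0 := by rw [Pc_inner_Lc]; exact one_ne_zero
  have h2 : Cfsg.classInner (Pc β β) (Lc α) ≠ 0 := by rw [h, Pc_inner_Lc]; exact one_ne_zero
  rcases pair_eq_of_common (Lc_isIrr α) h1 h2 with h | h <;> exact h.1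

theorem Sc_injective : Function.Injective (Sc (F := F)) := by
  intro α β h
  have h1 : Cfsg.classInner (Pc α α) (Sc α) ≠ 0 := by rw [Pc_inner_Sc]; exact one_ne_zero
  have h2 : Cfsg.classInner (Pc β β) (Sc α) ≠ 0 := by rw [h, Pc_inner_Sc]; exact one_ne_zero
  rcases pair_eq_of_common (Sc_isIrr α) h1 h2 with h | h <;> exact h.1

theorem Pc_uGL (α β : MulChar F ℂ) (x : F) :
    Pc α β (uGL x) = 1 + (if x = 0 then (Fintype.card F : ℂ) else 0) := by
  rw [Pc_apply, uGL_coe, piFun_bMat]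
  simp only [map_one, mul_one, sub_self, mul_zero]
  congr 1
  split_ifs <;> simp [Finset.card_univ]

theorem Lc_uGL (α : MulChar F ℂ) (x : F) : Lc α (uGL x) = 1 := by
  simp [Lc, uGL_coe, bMat, Matrix.det_fin_two]

theorem sum_addChar_neg {ψ : AddChar F ℂ} (hψ : ψ.IsPrimitive) (a : F) :
    ∑ x : F, ψ (-(a * x)) = if a = 0 then (Fintype.card F : ℂ) else 0 := by
  have := AddChar.sum_mulShift (-a) hψ
  simp only [neg_eq_zero] at this
  push_cast at this
  rw [← this]
  refine Finset.sum_congr rfl fun x _ => ?_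
  congr 1
  ring

theorem mult_Lc {ψ : AddChar F ℂ} (hψ : ψ.IsPrimitive) (α : MulChar F ℂ) (a : F) :
    mult ψ uGL (Lc α) a = if a = 0 then 1 else 0 := by
  simp only [mult, Lc_uGL, one_mul]
  rw [sum_addChar_neg hψ]
  split_ifs
  · exact inv_mul_cancel₀ card_F_ne_zero
  · exact mul_zero _

theorem mult_Pc {ψ : AddChar F ℂ} (hψ : ψ.IsPrimitive) (α β : MulChar F ℂ) (a : F) :
    mult ψ uGL (Pc α β) a = (if a = 0 then 1 else 0) + 1 := by
  simp only [mult, Pc_uGL, add_mul, one_mul, Finset.sum_add_distrib]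
  rw [sum_addChar_neg hψ, Finset.sum_eq_single (0 : F)]
  · simp only [if_true, mul_zero, neg_zero, AddChar.map_zero_eq_one, mul_one, mul_add]
    rw [inv_mul_cancel₀ card_F_ne_zero]
    congr 1
    split_ifs
    · exact inv_mul_cancel₀ card_F_ne_zero
    · exact mul_zero _
  · intro y _ hy
    rw [if_neg hy, zero_mul]
  · intro h; exact absurd (Finset.mem_univ _) h

theorem mult_Sc {ψ : AddChar F ℂ} (hψ : ψ.IsPrimitive) (α : MulChar F ℂ) (a : F) :
    mult ψ uGL (Sc α) a = 1 := by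
  rw [Sc, mult_sub, mult_Pc hψ, mult_Lc hψ]
  ring

theorem Pc_one (α β : MulChar F ℂ) : Pc α β 1 = (Fintype.card F : ℂ) + 1 := by
  rw [← uGL_zero, Pc_uGL, if_pos rfl, add_comm]

theorem Lc_one (α : MulChar F ℂ) : Lc α 1 = 1 := by
  rw [← uGL_zero, Lc_uGL]

theorem Sc_one (α : MulChar F ℂ) : Sc α 1 = (Fintype.card F : ℂ) := by
  rw [Sc, Pi.sub_apply, Pc_one, Lc_one]
  ring

/-! ### counting -/

theorem irr_apply_one_ne_zero {G : Type*} [Group G] {χ : G → ℂ} (h : Cfsg.IsIrrCharacter G χ) :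
    χ 1 ≠ 0 := by
  obtain ⟨n, ρ, hρ, rfl⟩ := h
  have := hρ
  rw [Representation.char_one]
  exact_mod_cast (finrank_pos_of_isIrreducible ρ).ne'

/-- principal series indexed by unordered pairs -/
noncomputable def Psym : Sym2 (MulChar F ℂ) → GL (Fin 2) F → ℂ := Sym2.lift ⟨Pc, Pc_comm⟩

theorem Psym_mk (α β : MulChar F ℂ) : Psym s(α, β) = Pc α β := rfl

theorem Psym_isIrr (s : Sym2 (MulChar F ℂ)) (hs : ¬ s.IsDiag) :
    Cfsg.IsIrrCharacter (GL (Fin 2) F) (Psym s) := by
  induction s using Sym2.ind with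
  | _ α β => exact Pc_isIrr (by simpa using hs)

theorem Psym_injective : Function.Injective (Psym (F := F)) := by
  intro s t h
  induction s using Sym2.ind with
  | _ α β =>
    induction t using Sym2.ind with
    | _ α' β' =>
      rw [Sym2.eq_iff]
      exact (Pc_eq_iff α β α' β').mp h

theorem Psym_one (s : Sym2 (MulChar F ℂ)) : Psym s 1 = (Fintype.card F : ℂ) + 1 := by
  induction s using Sym2.ind with
  | _ α β => exact Pc_one α β

theorem mult_Psym {ψ : AddChar F ℂ} (hψ : ψ.IsPrimitive) (s : Sym2 (MulChar F ℂ)) (a : F) :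
    mult ψ uGL (Psym s) a = (if a = 0 then 1 else 0) + 1 := by
  induction s using Sym2.ind with
  | _ α β => exact mult_Pc hψ α β a

/-- index set of the principal series constituents -/
abbrev PSIndex (F : Type*) [Field F] :=
  MulChar F ℂ ⊕ MulChar F ℂ ⊕ {s : Sym2 (MulChar F ℂ) // ¬ s.IsDiag}

/-- the irreducible characters occurring in the principal series -/
noncomputable def Phi : PSIndex F → Cfsg.IrrCharacter (GL (Fin 2) F)
  | Sum.inl α => ⟨Lc α, Lc_isIrr α⟩
  | Sum.inr (Sum.inl α) => ⟨Sc α, Sc_isIrr α⟩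
  | Sum.inr (Sum.inr s) => ⟨Psym s.1, Psym_isIrr s.1 s.2⟩

theorem card_F_ne_one : (Fintype.card F : ℂ) ≠ 1 := by
  have : 1 < Fintype.card F := Fintype.one_lt_card
  exact_mod_cast this.ne'

theorem Phi_injective : Function.Injective (Phi (F := F)) := by
  have hq := card_F_ne_one (F := F)
  have hq0 := card_F_ne_zero (F := F)
  rintro (α | α | s) (β | β | t) h
  · rw [Lc_injective (congrArg Subtype.val h)]
  · exfalso
    have := congrFun (congrArg Subtype.val h) 1
    simp only [Phi, Lc_one, Sc_one] at this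
    exact hq this.symm
  · exfalso
    have := congrFun (congrArg Subtype.val h) 1
    simp only [Phi, Lc_one, Psym_one] at this
    apply hq0
    linear_combination -this
  · exfalso
    have := congrFun (congrArg Subtype.val h) 1
    simp only [Phi, Lc_one, Sc_one] at this
    exact hq this
  · rw [Sc_injective (congrArg Subtype.val h)]
  · exfalso
    have := congrFun (congrArg Subtype.val h) 1
    simp only [Phi, Sc_one, Psym_one] at this
    have h1 : (1 : ℂ) = 0 := by linear_combination -this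
    exact one_ne_zero h1
  · exfalso
    have := congrFun (congrArg Subtype.val h) 1
    simp only [Phi, Lc_one, Psym_one] at this
    apply hq0
    linear_combination this
  · exfalso
    have := congrFun (congrArg Subtype.val h) 1
    simp only [Phi, Sc_one, Psym_one] at this
    have h1 : (1 : ℂ) = 0 := by linear_combination this
    exact one_ne_zero h1
  · rw [Subtype.ext (Psym_injective (congrArg Subtype.val h))]

theorem card_mulChar : (Nat.card (MulChar F ℂ) : ℂ) = (Fintype.card F : ℂ) - 1 := by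
  rw [MulChar.card_eq_card_units_of_hasEnoughRootsOfUnity, Nat.card_eq_fintype_card,
    card_units_cast]

theorem card_offDiag : (Nat.card {s : Sym2 (MulChar F ℂ) // ¬ s.IsDiag} : ℂ) =
    ((Fintype.card F : ℂ) - 1) * ((Fintype.card F : ℂ) - 2) / 2 := by
  rw [Sym2.natCard_subtype_not_diag, Nat.cast_choose_two, card_mulChar]
  ring

theorem mult_trans {ψ : AddChar F ℂ} {χ : GL (Fin 2) F → ℂ}
    (hχ : Cfsg.IsClassFunction (GL (Fin 2) F) χ) (a : F) (ha : a ≠ 0) :
    mult ψ uGL χ a = mult ψ uGL χ 1 := by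
  have := mult_mul_of_conj ψ uGL hχ a ha (uGL_conj a ha) 1
  rwa [one_mul] at this

theorem sum_irr_decomp [Fintype (Cfsg.IrrCharacter (GL (Fin 2) F))] [Fintype (MulChar F ℂ)]
    [Fintype {s : Sym2 (MulChar F ℂ) // ¬ s.IsDiag}] [DecidableEq (Cfsg.IrrCharacter (GL (Fin 2) F))]
    (f : Cfsg.IrrCharacter (GL (Fin 2) F) → ℂ) :
    ∑ χ, f χ = ∑ α, f (Phi (Sum.inl α)) + ∑ α, f (Phi (Sum.inr (Sum.inl α))) +
      ∑ s, f (Phi (Sum.inr (Sum.inr s))) + ∑ χ ∈ (Finset.univ.image (Phi (F := F)))ᶜ, f χ := by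
  rw [← Finset.sum_add_sum_compl (Finset.univ.image (Phi (F := F))) f,
    Finset.sum_image (fun x _ y _ h => Phi_injective h), Fintype.sum_sum_type, Fintype.sum_sum_type]
  ring

theorem cuspidal_facts {ψ : AddChar F ℂ} (hψ : ψ.IsPrimitive) :
    (∀ χ : Cfsg.IrrCharacter (GL (Fin 2) F), χ ∉ Set.range (Phi (F := F)) →
      mult ψ uGL χ 0 = 0 ∧ mult ψ uGL χ 1 = 1) ∧
    (Nat.card {χ : Cfsg.IrrCharacter (GL (Fin 2) F) // χ ∉ Set.range (Phi (F := F))} : ℂ) =
      (Fintype.card F : ℂ) * ((Fintype.card F : ℂ) - 1) / 2 := by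
  classical
  haveI := finite_irr (G := GL (Fin 2) F)
  letI : Fintype (Cfsg.IrrCharacter (GL (Fin 2) F)) := Fintype.ofFinite _
  letI : Fintype (MulChar F ℂ) := Fintype.ofFinite _
  letI : Fintype {s : Sym2 (MulChar F ℂ) // ¬ s.IsDiag} := Fintype.ofFinite _
  set Q : ℂ := (Fintype.card F : ℂ) with hQ
  have hQ0 : Q ≠ 0 := card_F_ne_zero
  have hQ1 : Q - 1 ≠ 0 := sub_ne_zero.mpr card_F_ne_one
  have cM : (Fintype.card (MulChar F ℂ) : ℂ) = Q - 1 := by
    rw [← Nat.card_eq_fintype_card, card_mulChar]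
  have cS : (Fintype.card {s : Sym2 (MulChar F ℂ) // ¬ s.IsDiag} : ℂ) = (Q - 1) * (Q - 2) / 2 := by
    rw [← Nat.card_eq_fintype_card, card_offDiag]
  choose n hn using fun (χ : Cfsg.IrrCharacter (GL (Fin 2) F)) (a : F) =>
    mult_nat ψ uGL uGL_add (IsIrrCharacter.isCharacter χ.2) a
  set D : Finset (Cfsg.IrrCharacter (GL (Fin 2) F)) := (Finset.univ.image (Phi (F := F)))ᶜ with hD
  have memD : ∀ χ, χ ∈ D ↔ χ ∉ Set.range (Phi (F := F)) := by
    intro χ
    simp [hD]
  -- the three equations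
  have E0 := sum_mult_GL hψ (0 : F) 0
  rw [sum_irr_decomp] at E0
  simp only [Phi, mult_Lc hψ, mult_Sc hψ, mult_Psym hψ, if_true, map_one, mul_one, Finset.sum_const,
    Finset.card_univ, nsmul_eq_mul, cM, cS, map_add] at E0
  have E1 := sum_mult_GL hψ (1 : F) 1
  rw [sum_irr_decomp] at E1
  simp only [Phi, mult_Lc hψ, mult_Sc hψ, mult_Psym hψ, one_ne_zero, if_false, map_one, mul_one,
    Finset.sum_const, Finset.card_univ, nsmul_eq_mul, cM, cS, map_add, map_zero, mul_zero, zero_add]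
    at E1
  have EC : (Fintype.card (Cfsg.IrrCharacter (GL (Fin 2) F)) : ℂ) = Q ^ 2 - 1 := by
    rw [← Nat.card_eq_fintype_card, card_irr_eq_card_conjClasses, Cfsg.Agent.S2330.result,
      Nat.cast_sub (Nat.one_le_pow _ _ Fintype.card_pos)]
    simp [hQ]
  have EC' : (∑ _χ : Cfsg.IrrCharacter (GL (Fin 2) F), (1 : ℂ)) = Q ^ 2 - 1 := by
    rw [Finset.sum_const, Finset.card_univ, nsmul_eq_mul, mul_one, EC]
  rw [sum_irr_decomp] at EC'
  simp only [Finset.sum_const, Finset.card_univ, nsmul_eq_mul, cM, cS, mul_one] at EC'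
  simp only [hn, Complex.conj_natCast] at E0 E1
  have F0 : ∑ χ ∈ D, n χ 0 * n χ 0 = 0 := by
    have : ((∑ χ ∈ D, n χ 0 * n χ 0 : ℕ) : ℂ) = 0 := by
      push_cast
      have e : (Q⁻¹) ^ 2 * (Q * (Q - 1) ^ 2 * (Q + 1) + Q * (Q - 1) * ((Q - 1) * (Q - 1))) =
          2 * (Q - 1) ^ 2 := by
        field_simp
        ring
      rw [e] at E0
      linear_combination E0
    exact_mod_cast this
  have G0 : ∀ χ ∈ D, n χ 0 = 0 := by
    intro χ hχ
    have := (Finset.sum_eq_zero_iff.mp F0) χ hχ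
    exact mul_self_eq_zero.mp this
  have cD : (D.card : ℂ) = Q * (Q - 1) / 2 := by
    linear_combination EC'
  have F1 : ∑ χ ∈ D, n χ 1 * n χ 1 = ∑ _χ ∈ D, 1 := by
    have : ((∑ χ ∈ D, n χ 1 * n χ 1 : ℕ) : ℂ) = ((∑ _χ ∈ D, 1 : ℕ) : ℂ) := by
      rw [Finset.sum_const, smul_eq_mul, mul_one, cD]
      push_cast
      have e : (Q⁻¹) ^ 2 * (Q * (Q - 1) ^ 2 * (Q + 1) + Q * (Q - 1) * ((0 - 1) * (0 - 1))) =
          Q * (Q - 1) := by
        field_simp
        ring
      rw [e] at E1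
      linear_combination E1
    exact_mod_cast this
  have G1pos : ∀ χ ∈ D, 1 ≤ n χ 1 * n χ 1 := by
    intro χ hχ
    have hcl := IsCharacter.isClassFunction (IsIrrCharacter.isCharacter χ.2)
    have h1 := apply_u_zero hψ uGL χ.1 (fun a ha => mult_trans hcl a ha)
    rw [uGL_zero, hn, hn, G0 χ hχ] at h1
    have h2 := irr_apply_one_ne_zero χ.2
    have h3 : n χ 1 ≠ 0 := by
      intro h0
      rw [h0] at h1
      apply h2
      rw [h1]
      simp
    exact Nat.mul_pos (Nat.pos_of_ne_zero h3) (Nat.pos_of_ne_zero h3)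
  have G1 : ∀ χ ∈ D, n χ 1 = 1 := by
    intro χ hχ
    have := (Finset.sum_eq_sum_iff_of_le (fun χ hχ => G1pos χ hχ)).mp F1.symm χ hχ
    nlinarith [G1pos χ hχ]
  refine ⟨fun χ hχ => ?_, ?_⟩
  · have hχD := (memD χ).mpr hχ
    rw [hn, hn, G0 χ hχD, G1 χ hχD]
    simp
  · rw [← cD, Nat.card_eq_fintype_card, Fintype.card_subtype]
    congr 2
    ext χ
    simp [memD]

open Classical in
/-- the number of irreducible characters of `GL₂` of a given degree -/
theorem card_degree_eq (d : ℂ) :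
    (Nat.card {χ : Cfsg.IrrCharacter (GL (Fin 2) F) // (χ : GL (Fin 2) F → ℂ) 1 = d} : ℂ) =
      (if 1 = d then (Fintype.card F : ℂ) - 1 else 0) +
      (if (Fintype.card F : ℂ) = d then (Fintype.card F : ℂ) - 1 else 0) +
      (if (Fintype.card F : ℂ) + 1 = d then
        ((Fintype.card F : ℂ) - 1) * ((Fintype.card F : ℂ) - 2) / 2 else 0) +
      (if (Fintype.card F : ℂ) - 1 = d then
        (Fintype.card F : ℂ) * ((Fintype.card F : ℂ) - 1) / 2 else 0) := by
  obtain ⟨ψ, hψ⟩ := exists_primitive_addChar (F := F)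
  haveI := finite_irr (G := GL (Fin 2) F)
  letI : Fintype (Cfsg.IrrCharacter (GL (Fin 2) F)) := Fintype.ofFinite _
  letI : Fintype (MulChar F ℂ) := Fintype.ofFinite _
  letI : Fintype {s : Sym2 (MulChar F ℂ) // ¬ s.IsDiag} := Fintype.ofFinite _
  have cM : (Fintype.card (MulChar F ℂ) : ℂ) = (Fintype.card F : ℂ) - 1 := by
    rw [← Nat.card_eq_fintype_card, card_mulChar]
  have cS : (Fintype.card {s : Sym2 (MulChar F ℂ) // ¬ s.IsDiag} : ℂ) =
      ((Fintype.card F : ℂ) - 1) * ((Fintype.card F : ℂ) - 2) / 2 := by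
    rw [← Nat.card_eq_fintype_card, card_offDiag]
  have hcusp := cuspidal_facts hψ
  have cD : (((Finset.univ.image (Phi (F := F)))ᶜ).card : ℂ) =
      (Fintype.card F : ℂ) * ((Fintype.card F : ℂ) - 1) / 2 := by
    rw [← hcusp.2, Nat.card_eq_fintype_card, Fintype.card_subtype]
    congr 2
    ext χ
    simp
  rw [Nat.card_eq_fintype_card, Fintype.card_subtype, Finset.card_filter]
  push_cast
  rw [sum_irr_decomp]
  have hDdeg : ∀ χ ∈ (Finset.univ.image (Phi (F := F)))ᶜ,
      (if (χ : GL (Fin 2) F → ℂ) 1 = d then (1 : ℂ) else 0) =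
      if (Fintype.card F : ℂ) - 1 = d then (1 : ℂ) else 0 := by
    intro χ hχ
    have hχ' : χ ∉ Set.range (Phi (F := F)) := by simpa using hχ
    obtain ⟨h0, h1⟩ := hcusp.1 χ hχ'
    have hcl := IsCharacter.isClassFunction (IsIrrCharacter.isCharacter χ.2)
    have := apply_u_zero hψ uGL χ.1 (fun a ha => mult_trans hcl a ha)
    rw [uGL_zero, h0, h1, zero_add, mul_one] at this
    rw [this]
  rw [Finset.sum_congr rfl hDdeg]
  simp only [Phi, Lc_one, Sc_one, Psym_one, Finset.sum_const, Finset.card_univ, nsmul_eq_mul, cM, cS,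
    cD, mul_ite, mul_one, mul_zero]

/-- classification of the irreducible characters of `GL₂` -/
theorem GL2_classification (χ : GL (Fin 2) F → ℂ) (hχ : Cfsg.IsIrrCharacter (GL (Fin 2) F) χ) :
    (∃ α, χ = Lc α) ∨ (∃ α, χ = Sc α) ∨ (∃ α β, α ≠ β ∧ χ = Pc α β) ∨
    (χ 1 = (Fintype.card F : ℂ) - 1 ∧ (∀ x, x ≠ 0 → χ (uGL x) = -1) ∧ ∑ x, χ (uGL x) = 0) := by
  obtain ⟨ψ, hψ⟩ := exists_primitive_addChar (F := F)
  by_cases h : (⟨χ, hχ⟩ : Cfsg.IrrCharacter (GL (Fin 2) F)) ∈ Set.range (Phi (F := F))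
  · obtain ⟨(α | α | s), hx⟩ := h
    · left; exact ⟨α, (congrArg Subtype.val hx).symm⟩
    · right; left; exact ⟨α, (congrArg Subtype.val hx).symm⟩
    · right; right; left
      obtain ⟨s, hs⟩ := s
      induction s using Sym2.ind with
      | _ α β => exact ⟨α, β, by simpa using hs, (congrArg Subtype.val hx).symm⟩
  · right; right; right
    obtain ⟨h0, h1⟩ := (cuspidal_facts hψ).1 ⟨χ, hχ⟩ h
    simp only at h0 h1
    have hcl := IsCharacter.isClassFunction (IsIrrCharacter.isCharacter hχ)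
    refine ⟨?_, ?_, ?_⟩
    · have := apply_u_zero hψ uGL χ (fun a ha => mult_trans hcl a ha)
      rw [uGL_zero, h0, h1] at this
      rw [this]; ring
    · intro x hx
      rw [apply_u_ne hψ uGL χ (fun a ha => mult_trans hcl a ha) x hx, h0, h1]
      ring
    · have : mult ψ uGL χ 0 = (Fintype.card F : ℂ)⁻¹ * ∑ x, χ (uGL x) := by
        simp [mult]
      rw [this] at h0
      exact (mul_eq_zero.mp h0).resolve_left (inv_ne_zero card_F_ne_zero)

theorem piFun_of_no_eigen (α β : MulChar F ℂ) (M : Matrix (Fin 2) (Fin 2) F)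
    (h : ∀ (c : F) (v : Fin 2 → F), v ≠ 0 → M.mulVec v ≠ c • v) : piFun α β M = 0 := by
  rw [piFun, if_neg, zero_add]
  · apply Finset.sum_eq_zero
    intro t _
    rw [if_neg]
    intro ht
    apply h (M 1 0 * t + M 1 1) ![t, 1]
    · intro h0
      have := congrFun h0 1
      simp at this
    · ext i
      fin_cases i
      · simp [Matrix.mulVec, dotProduct, Fin.sum_univ_two]
        linear_combination -ht
      · simp [Matrix.mulVec, dotProduct, Fin.sum_univ_two]
  · intro h0
    apply h (M 0 0) ![1, 0]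
    · intro h1
      have := congrFun h1 0
      simp at this
    · ext i
      fin_cases i
      · simp [Matrix.mulVec, dotProduct, Fin.sum_univ_two]
      · simp [Matrix.mulVec, dotProduct, Fin.sum_univ_two, h0]

theorem piFun_diag (α β : MulChar F ℂ) (a d : F) (h : a ≠ d) :
    piFun α β (bMat a d 0) = α a * β d + α d * β a := by
  rw [piFun_bMat]
  congr 1
  rw [Finset.sum_eq_single (0 : F)]
  · simp
  · intro t _ ht
    rw [if_neg]
    intro h0
    rcases mul_eq_zero.mp h0.symm with h1 | h1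
    · exact ht h1
    · exact h (sub_eq_zero.mp h1).symm
  · intro h; exact absurd (Finset.mem_univ _) h

theorem norm_mulChar (α : MulChar F ℂ) (a : F) (ha : a ≠ 0) : ‖α a‖ = 1 := by
  apply Complex.norm_eq_one_of_pow_eq_one (n := Fintype.card F - 1)
  · rw [← map_pow, FiniteField.pow_card_sub_one_eq_one a ha, map_one]
  · have : 1 < Fintype.card F := Fintype.one_lt_card
    omega

/-- the homomorphism from the additive group of the field -/
noncomputable def uGLHom : Multiplicative F →* GL (Fin 2) F :=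
  MonoidHom.mk' (fun x => uGL x.toAdd) (fun x y => uGL_add _ _)

theorem eq_bMat_of_diag (M : Matrix (Fin 2) (Fin 2) F) (h01 : M 0 1 = 0) (h10 : M 1 0 = 0) :
    M = bMat (M 0 0) (M 1 1) 0 := by
  ext i j
  fin_cases i <;> fin_cases j <;> simp [bMat, h01, h10]

theorem cusp_vanish {χ : GL (Fin 2) F → ℂ} (hχ : Cfsg.IsCharacter (GL (Fin 2) F) χ)
    (h0 : ∑ x, χ (uGL x) = 0) (g : GL (Fin 2) F)
    (h01 : (g : Matrix (Fin 2) (Fin 2) F) 0 1 = 0) (h10 : (g : Matrix (Fin 2) (Fin 2) F) 1 0 = 0)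
    (hne : (g : Matrix (Fin 2) (Fin 2) F) 0 0 ≠ (g : Matrix (Fin 2) (Fin 2) F) 1 1) : χ g = 0 := by
  have h1 : ∑ a : Multiplicative F, χ (uGLHom a) = 0 := by
    rw [← h0]
    exact Fintype.sum_equiv Multiplicative.toAdd _ _ fun x => rfl
  have h2 := sum_mul_eq_zero_of_sum_eq_zero uGLHom hχ h1 g
  have h3 : ∀ a : Multiplicative F, χ (g * uGLHom a) = χ g := by
    intro a
    apply IsClassFunction.eq_of_isConj (IsCharacter.isClassFunction hχ)
    have hm : ((g * uGLHom a : GL (Fin 2) F) : Matrix (Fin 2) (Fin 2) F) =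
        bMat ((g : Matrix (Fin 2) (Fin 2) F) 0 0) ((g : Matrix (Fin 2) (Fin 2) F) 1 1)
          ((g : Matrix (Fin 2) (Fin 2) F) 0 0 * a.toAdd) := by
      rw [Units.val_mul]
      change (g : Matrix (Fin 2) (Fin 2) F) * bMat 1 1 a.toAdd = _
      conv_lhs => rw [eq_bMat_of_diag _ h01 h10]
      ext i j
      fin_cases i <;> fin_cases j <;> simp [bMat, Matrix.mul_apply, Fin.sum_univ_two]
    apply isConj_GL_of_trace_det
    · right; right
      rw [hm]
      simpa [bMat] using hne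
    · right; right; exact hne
    · rw [hm]
      simp [bMat, Matrix.trace_fin_two]
    · rw [hm]
      simp [bMat, Matrix.det_fin_two, h01, h10]
  simp only [h3, Finset.sum_const, Finset.card_univ, nsmul_eq_mul] at h2
  rcases mul_eq_zero.mp h2 with h | h
  · exfalso
    have : Fintype.card (Multiplicative F) ≠ 0 := Fintype.card_ne_zero
    exact this (by exact_mod_cast h)
  · exact h

end Cfsg.Agent.Lib.Helper13
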