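import Mathlib
import Cfsg.Agent.Lib.Helper13.CentralExt2
import Cfsg.Agent.Lib.Helper24.Covering
import Cfsg.Agent.Lib.Helper22.Cover
import Cfsg.Agent.Lib.Helper2.PermChar
import Cfsg.Agent.S0173
import Cfsg.Agent.Lib.Helper2.Linear
import Cfsg.Agent.Lib.Helper13.Clifford4
import Cfsg.Agent.Lib.Helper6.Cover

set_option autoImplicit false
set_option linter.unusedSectionVars false

namespace Cfsg.Agent.Lib.Helper13

open Cfsg.Agent.Lib.Helper2 Cfsg.Agent.Lib.Lead
open scoped ComplexConjugate

theorem charDegree_eq_of_cast {G : Type*} [Group G] {χ : G → ℂ} {n : ℕ} (h : χ 1 = n) :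
    Cfsg.charDegree χ = n := by
  simp [Cfsg.charDegree, h]

/-- every irreducible character of a normal subgroup lies under an irreducible character whose
degree it divides, with quotient dividing the index -/
theorem exists_over_degree {G : Type*} [Group G] [Finite G] (N : Subgroup G) [N.Normal]
    (θ : Cfsg.IrrCharacter N) :
    ∃ (χ : Cfsg.IrrCharacter G) (e : ℕ), Cfsg.charDegree (χ : G → ℂ) =
      e * Cfsg.charDegree (θ : N → ℂ) ∧ e ∣ N.index := by
  classical
  cases nonempty_fintype G
  obtain ⟨χ, hχ⟩ := Cfsg.Agent.Lib.Helper24.exists_irr_over N.subtype N.subtype_injective θ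
  obtain ⟨e, he1, he2⟩ := ratio_dvd_index N χ.2 θ.2 hχ
  refine ⟨χ, e, ?_, he2⟩
  apply charDegree_eq_of_cast
  rw [he1, ← Cfsg.Agent.Lib.Helper24.charDegree_cast (IsIrrCharacter.isCharacter θ.2)]
  push_cast
  rfl

theorem comm_of_all_linear {G : Type*} [Group G] [Finite G]
    (h : ∀ χ : Cfsg.IrrCharacter G, (χ : G → ℂ) 1 = 1) (x y : G) : x * y = y * x := by
  classical
  cases nonempty_fintype G
  have := finite_irr (G := G)
  cases nonempty_fintype (Cfsg.IrrCharacter G)
  have h1 := sum_degree_mul_irr (G := G) (x * y * x⁻¹ * y⁻¹)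
  have h2 := sum_degree_mul_irr (G := G) 1
  have h3 : ∀ χ : Cfsg.IrrCharacter G, (χ : G → ℂ) (x * y * x⁻¹ * y⁻¹) = (χ : G → ℂ) 1 := by
    intro χ
    obtain ⟨lam, hlam⟩ := exists_hom_of_degree_one (IsIrrCharacter.isCharacter χ.2) (h χ)
    rw [hlam]
    simp only [map_mul, map_inv, map_one]
    congr 1
    rw [mul_comm (lam x) (lam y)]
    group
  simp only [h3] at h1
  rw [h2, if_pos rfl] at h1
  by_cases hc : x * y * x⁻¹ * y⁻¹ = 1
  · calc x * y = (x * y * x⁻¹ * y⁻¹) * (y * x) := by group
      _ = y * x := by rw [hc, one_mul]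
  · rw [if_neg hc] at h1
    have : (Nat.card G : ℂ) ≠ 0 := by exact_mod_cast (Nat.card_pos (α := G)).ne'
    exact absurd h1 this

/-- a subgroup meeting every conjugacy class is everything -/
theorem eq_top_of_meets_classes {G : Type*} [Group G] [Finite G] (D : Subgroup G)
    (h : ∀ x : G, ∃ g : G, g⁻¹ * x * g ∈ D) : D = ⊤ := by
  have h1 := Cfsg.Agent.Lib.Helper22.ncard_conjUnion_le D
  have h2 : Cfsg.Agent.Lib.Helper22.conjUnion D = Set.univ := by
    ext x
    simp only [Set.mem_univ, iff_true]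
    exact h x
  rw [h2, Set.ncard_univ] at h1
  have h3 : (Subgroup.normalizer (D : Set G)).index ∣ D.index :=
    Subgroup.index_dvd_of_le Subgroup.le_normalizer
  have h4 : (Subgroup.normalizer (D : Set G)).index ≤ D.index :=
    Nat.le_of_dvd (Nat.pos_of_ne_zero Subgroup.index_ne_zero_of_finite) h3
  have h5 := Subgroup.card_mul_index D
  have h6 : 0 < Nat.card D := Nat.card_pos
  have h7 : Nat.card G ≤ 1 + D.index * (Nat.card D - 1) :=
    h1.trans (Nat.add_le_add_left (Nat.mul_le_mul_right _ h4) 1)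
  have h8 : D.index * (Nat.card D - 1) + D.index = Nat.card G := by
    rw [← h5, mul_comm (Nat.card D)]
    obtain ⟨k, hk⟩ : ∃ k, Nat.card D = k + 1 := ⟨Nat.card D - 1, by omega⟩
    rw [hk]
    simp [mul_add]
  have h9 : D.index ≤ 1 := by omega
  have h10 : D.index ≠ 0 := Subgroup.index_ne_zero_of_finite
  exact Subgroup.index_eq_one.mp (by omega)


/-- **Itô**: degrees divide the index of an abelian normal subgroup -/
theorem ito_degree_dvd {G : Type*} [Group G] [Finite G] (H : Subgroup G) [H.Normal]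
    (hH : ∀ a ∈ H, ∀ b ∈ H, a * b = b * a) (χ : Cfsg.IrrCharacter G) :
    Cfsg.charDegree (χ : G → ℂ) ∣ H.index := by
  classical
  cases nonempty_fintype G
  obtain ⟨θ, hθ⟩ := Cfsg.Agent.Lib.Helper6.exists_constituent H χ.2
  obtain ⟨e, he1, he2⟩ := ratio_dvd_index H χ.2 θ.2 hθ
  have hθ1 : (θ : H → ℂ) 1 = 1 := by
    apply degree_one_of_abelian_quotient (⊥ : Subgroup H) _ θ.2
    · intro n hn
      rw [Subgroup.mem_bot.mp hn]
    · intro x y
      rw [Subgroup.mem_bot]
      have h1 : x * y = y * x := Subtype.ext (hH x x.2 y y.2)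
      rw [h1]
      group
  rw [hθ1, mul_one] at he1
  rw [charDegree_eq_of_cast he1]
  exact he2

theorem inertia_index_dvd_degree {G : Type*} [Group G] [Finite G] (N : Subgroup G) [N.Normal]
    [Fintype N] {θ : N → ℂ} (hθ : Cfsg.IsIrrCharacter N θ) {χ : G → ℂ} (hχ : Cfsg.IsIrrCharacter G χ)
    (hcon : Cfsg.classInner (fun n : N => χ n) θ ≠ 0) :
    (inertia N θ).index ∣ Cfsg.charDegree χ := by
  classical
  cases nonempty_fintype G
  set T := inertia N θ with hTdef
  have hT : ∀ g, g ∈ T ↔ conjFun N g θ = θ := fun g => mem_inertia N θ g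
  have hNT : N ≤ T := le_inertia N hθ T hT
  obtain ⟨ψ, hψ, hψχ, -, -⟩ := clifford_surj N hθ T hT hNT hχ hcon
  have h1 := Cfsg.Agent.Lib.Helper24.indFun_one T ψ
  rw [hψχ, ← Cfsg.Agent.Lib.Helper24.charDegree_cast (IsIrrCharacter.isCharacter hψ)] at h1
  have h2 : Cfsg.charDegree χ = T.index * Cfsg.charDegree ψ := by
    apply charDegree_eq_of_cast
    rw [h1]
    push_cast
    rfl
  rw [h2]
  exact Dvd.intro _ rfl

/-- if `g` fixes all irreducible characters of `N`, it fixes all classes of `N` -/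
theorem isConj_of_all_invariant {G : Type*} [Group G] [Finite G] (N : Subgroup G) [hN : N.Normal]
    (g : G) (hinv : ∀ θ : Cfsg.IrrCharacter N, conjFun N g (θ : N → ℂ) = θ) (n : N) :
    IsConj (MulAut.conjNormal g n) n := by
  classical
  have h1 := Cfsg.Agent.S0173.result (MulAut.conjNormal g : N ≃* N)
  have h2 := Cfsg.Agent.S0173.result (MulEquiv.refl N)
  have h3 : Nat.card {χ : Cfsg.IrrCharacter N // (χ : N → ℂ) ∘ (MulAut.conjNormal g : N ≃* N) =
      (χ : N → ℂ)} = Nat.card {χ : Cfsg.IrrCharacter N // (χ : N → ℂ) ∘ (MulEquiv.refl N) =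
      (χ : N → ℂ)} := by
    apply Nat.card_congr
    apply Equiv.subtypeEquivRight
    intro χ
    constructor
    · intro _
      rfl
    · intro _
      have := (conjFun_inv_eq_iff N (χ : N → ℂ) g).mpr (hinv χ)
      rw [← stmtConj_eq] at this
      exact this
  rw [← h1, ← h2] at h3
  by_contra hcon
  have h4 : Nat.card {C : ConjClasses N // ConjClasses.map (MulAut.conjNormal g : N ≃* N).toMonoidHom C = C}
      < Nat.card (ConjClasses N) := by
    apply Finite.card_subtype_lt (x := ConjClasses.mk n)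
    intro h
    apply hcon
    exact ConjClasses.mk_eq_mk_iff_isConj.mp h
  have h5 : Nat.card {C : ConjClasses N // ConjClasses.map (MulEquiv.refl N).toMonoidHom C = C}
      = Nat.card (ConjClasses N) := by
    apply Nat.card_congr
    apply Equiv.subtypeUnivEquiv
    intro C
    induction C using Quotient.inductionOn with
    | _ a => rfl
  omega

end Cfsg.Agent.Lib.Helper13
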