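import Mathlib
import Cfsg.Agent.Lib.Helper13.Ito

set_option autoImplicit false
set_option linter.unusedSectionVars false

namespace Cfsg.Agent.Lib.Helper13

open Cfsg.Agent.Lib.Helper2 Cfsg.Agent.Lib.Lead
open scoped ComplexConjugate

theorem sylow_centralizes_of_all_invariant {G : Type*} [Group G] [Finite G] (p : ℕ)
    [hp : Fact p.Prime] (N : Subgroup G) [hN : N.Normal] (hcop : (Nat.card N).Coprime p)
    (hinv : ∀ (g : G) (θ : Cfsg.IrrCharacter N), conjFun N g (θ : N → ℂ) = θ) (S : Sylow p G) :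
    ∀ n ∈ N, ∀ s ∈ S, s * n = n * s := by
  classical
  let D : Subgroup N := (Subgroup.centralizer ((S : Subgroup G) : Set G)).subgroupOf N
  have hD : D = ⊤ := by
    apply eq_top_of_meets_classes
    intro x
    let C : Subgroup G := Subgroup.centralizer {(x : G)}
    have hC : ∀ g : G, g ∈ C ↔ g * x = x * g := by
      intro g
      rw [Subgroup.mem_centralizer_singleton_iff]
    have step1 : ∀ g : G, ∃ m : N, g * x * g⁻¹ = m * x * (m : G)⁻¹ := by
      intro g
      obtain ⟨c, hc⟩ := isConj_iff.mp (isConj_of_all_invariant N g (hinv g) x)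
      refine ⟨c⁻¹, ?_⟩
      have h1 := congrArg (Subtype.val) hc
      simp only [Subgroup.coe_mul, MulAut.conjNormal_apply, Subgroup.coe_inv] at h1
      simp only [Subgroup.coe_inv, inv_inv]
      calc g * x * g⁻¹ = (c : G)⁻¹ * (c * (g * x * g⁻¹) * (c : G)⁻¹) * c := by group
        _ = (c : G)⁻¹ * x * c := by rw [h1]
    have step2 : C.index ∣ Nat.card N := by
      have h1 : MulAction.orbit N ((1 : G) : G ⧸ C) = Set.univ := by
        ext y
        simp only [Set.mem_univ, iff_true]
        induction y using QuotientGroup.induction_on with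
        | _ g =>
          obtain ⟨m, hm⟩ := step1 g
          refine ⟨m, ?_⟩
          show (((m : G) * 1 : G) : G ⧸ C) = (g : G ⧸ C)
          rw [QuotientGroup.eq, hC]
          have : g * x = m * x * (m : G)⁻¹ * g := by
            rw [← hm]; group
          simp only [mul_one]
          rw [mul_assoc, this]
          group
      have h2 := MulAction.index_stabilizer N ((1 : G) : G ⧸ C)
      rw [h1, Set.ncard_univ] at h2
      rw [Subgroup.index, ← h2]
      exact Subgroup.index_dvd_card _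
    have step3 : ¬ p ∣ Nat.card (G ⧸ C) := by
      intro h
      have h1 : p ∣ Nat.card N := h.trans step2
      have h2 := Nat.Coprime.eq_one_of_dvd hcop.symm h1
      exact hp.out.one_lt.ne' h2
    obtain ⟨y, hy⟩ := S.2.nonempty_fixed_point_of_prime_not_dvd_card (G ⧸ C) step3
    induction y using QuotientGroup.induction_on with
    | _ g =>
      obtain ⟨m, hm⟩ := step1 g
      refine ⟨m⁻¹, ?_⟩
      show ((m⁻¹⁻¹ * x * m⁻¹ : N) : G) ∈ Subgroup.centralizer ((S : Subgroup G) : Set G)
      rw [Subgroup.mem_centralizer_iff]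
      intro s hs
      have h1 := hy ⟨s, hs⟩
      have h2 : (((s * g : G)) : G ⧸ C) = (g : G ⧸ C) := h1
      rw [QuotientGroup.eq, hC] at h2
      simp only [inv_inv, Subgroup.coe_mul, Subgroup.coe_inv]
      rw [← hm]
      have h3 : s⁻¹ * (g * x * g⁻¹) = (g * x * g⁻¹) * s⁻¹ := by
        calc s⁻¹ * (g * x * g⁻¹) = g * ((s * g)⁻¹ * g * x) * g⁻¹ := by group
          _ = g * (x * ((s * g)⁻¹ * g)) * g⁻¹ := by rw [h2]
          _ = (g * x * g⁻¹) * s⁻¹ := by group
      calc s * (g * x * g⁻¹) = s * ((g * x * g⁻¹) * s⁻¹) * s := by group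
        _ = s * (s⁻¹ * (g * x * g⁻¹)) * s := by rw [h3]
        _ = g * x * g⁻¹ * s := by group
  intro n hn s hs
  have h1 : (⟨n, hn⟩ : N) ∈ D := by rw [hD]; trivial
  have h2 : n ∈ Subgroup.centralizer ((S : Subgroup G) : Set G) := h1
  exact (Subgroup.mem_centralizer_iff.mp h2) s hs

theorem normal_abelian_sylow_of_all_invariant {G : Type*} [Group G] [Finite G] (p : ℕ)
    [hp : Fact p.Prime] (N : Subgroup G) [hN : N.Normal] (hcop : (Nat.card N).Coprime p)
    (hinv : ∀ (g : G) (θ : Cfsg.IrrCharacter N), conjFun N g (θ : N → ℂ) = θ)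
    (hq : IsPGroup p (G ⧸ N)) (hab : ∀ a b : G ⧸ N, a * b = b * a) :
    ∃ P : Subgroup G, P.Normal ∧ (∀ x ∈ P, ∀ y ∈ P, x * y = y * x) ∧ IsPGroup p P ∧
      ¬ p ∣ P.index := by
  classical
  obtain ⟨S⟩ : Nonempty (Sylow p G) := inferInstance
  have hcen := sylow_centralizes_of_all_invariant p N hcop hinv S
  have hidx : ¬ p ∣ (S : Subgroup G).index := S.not_dvd_index
  refine ⟨S, ?_, ?_, S.2, hidx⟩
  · have h1 : N ⊔ (S : Subgroup G) = ⊤ := by
      rw [← Subgroup.index_eq_one]
      have h2 : (N ⊔ (S : Subgroup G)).index ∣ N.index := Subgroup.index_dvd_of_le le_sup_left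
      have h3 : (N ⊔ (S : Subgroup G)).index ∣ (S : Subgroup G).index :=
        Subgroup.index_dvd_of_le le_sup_right
      obtain ⟨a, ha⟩ := IsPGroup.iff_card.mp hq
      have ha' : N.index = p ^ a := ha
      rw [ha'] at h2
      obtain ⟨j, -, hj⟩ := (Nat.dvd_prime_pow hp.out).mp h2
      rcases Nat.eq_zero_or_pos j with rfl | hjpos
      · simpa using hj
      · exfalso
        apply hidx
        refine dvd_trans ?_ h3
        rw [hj]
        exact dvd_pow_self p hjpos.ne'
    rw [← Subgroup.normalizer_eq_top_iff, eq_top_iff, ← h1, sup_le_iff]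
    refine ⟨?_, Subgroup.le_normalizer⟩
    intro n hn
    rw [Subgroup.mem_normalizer_iff]
    intro s
    constructor
    · intro hs
      have := hcen n hn s hs
      rw [← this]
      simpa using hs
    · intro hs
      have h2 := hcen n hn _ hs
      have h3 : n * s = n * (n * s * n⁻¹) := by
        rw [← h2]
        group
      rw [mul_left_cancel h3]
      exact hs
  · intro x hx y hy
    have h1 : x * y * x⁻¹ * y⁻¹ ∈ N := by
      rw [← QuotientGroup.eq_one_iff]
      simp only [QuotientGroup.mk_mul, QuotientGroup.mk_inv]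
      rw [hab (x : G ⧸ N) y]
      group
    have h2 : x * y * x⁻¹ * y⁻¹ ∈ (S : Subgroup G) :=
      S.mul_mem (S.mul_mem (S.mul_mem hx hy) (S.inv_mem hx)) (S.inv_mem hy)
    have h3 : N ⊓ (S : Subgroup G) = ⊥ := by
      apply Disjoint.eq_bot
      apply Subgroup.disjoint_of_coprime_natCard
      obtain ⟨a, ha⟩ := IsPGroup.iff_card.mp S.2
      rw [ha]
      exact Nat.Coprime.pow_right a hcop
    have h4 : x * y * x⁻¹ * y⁻¹ ∈ N ⊓ (S : Subgroup G) := ⟨h1, h2⟩
    rw [h3, Subgroup.mem_bot] at h4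
    calc x * y = (x * y * x⁻¹ * y⁻¹) * (y * x) := by group
      _ = y * x := by rw [h4, one_mul]


theorem degrees_normal {G : Type*} [Group G] [Finite G] (p : ℕ) (X : Subgroup G) [X.Normal]
    (h : ∀ χ : Cfsg.IrrCharacter G, ¬ p ∣ Cfsg.charDegree (χ : G → ℂ))
    (θ : Cfsg.IrrCharacter X) : ¬ p ∣ Cfsg.charDegree (θ : X → ℂ) := by
  obtain ⟨χ, e, he, -⟩ := exists_over_degree X θ
  intro hd
  apply h χ
  rw [he]
  exact Dvd.dvd.mul_left hd e

theorem degrees_quotient {G : Type*} [Group G] [Finite G] (p : ℕ) (N : Subgroup G) [N.Normal]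
    (h : ∀ χ : Cfsg.IrrCharacter G, ¬ p ∣ Cfsg.charDegree (χ : G → ℂ))
    (θ : Cfsg.IrrCharacter (G ⧸ N)) : ¬ p ∣ Cfsg.charDegree (θ : G ⧸ N → ℂ) :=
  h ⟨_, Cfsg.Agent.Lib.Helper24.IsIrrCharacter.inflate (QuotientGroup.mk' N)
    (QuotientGroup.mk'_surjective N) θ.2⟩

universe u

theorem ito_michler_aux (p : ℕ) [hp : Fact p.Prime] (𝒞 : ∀ (G : Type u) [Group G], Prop)
    (hsub : ∀ (G : Type u) [Group G] (H : Subgroup G), 𝒞 G → 𝒞 H)
    (hquot : ∀ (G : Type u) [Group G] (N : Subgroup G) [N.Normal], 𝒞 G → 𝒞 (G ⧸ N))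
    (hnor : ∀ (G : Type u) [Group G] [Finite G] [Nontrivial G], 𝒞 G →
      ∃ N : Subgroup G, N.Normal ∧ N ≠ ⊥ ∧
        ((∃ m, Nat.card N = p ^ m) ∨ (Nat.card N).Coprime p)) :
    ∀ (n : ℕ) (G : Type u) [Group G] [Finite G], Nat.card G = n → 𝒞 G →
      (∀ χ : Cfsg.IrrCharacter G, ¬ p ∣ Cfsg.charDegree (χ : G → ℂ)) →
      ∃ P : Subgroup G, P.Normal ∧ (∀ x ∈ P, ∀ y ∈ P, x * y = y * x) ∧ IsPGroup p P ∧
        ¬ p ∣ P.index := by
  intro n
  induction n using Nat.strong_induction_on with
  | _ n ih =>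
  intro G _ _ hn hC hdeg
  classical
  by_cases hG : Nontrivial G
  swap
  · rw [not_nontrivial_iff_subsingleton] at hG
    refine ⟨⊥, inferInstance, ?_, IsPGroup.of_bot, ?_⟩
    · intro x _ y _
      exact Subsingleton.elim _ _
    · rw [Subgroup.index_bot, Nat.card_of_subsingleton (1 : G)]
      exact hp.out.one_lt.ne' ∘ Nat.dvd_one.mp
  obtain ⟨N, hNn, hNbot, hNp⟩ := hnor G hC
  have hcardq : Nat.card (G ⧸ N) < n := by
    have h1 := Subgroup.card_mul_index N
    rw [hn] at h1
    have h2 : 1 < Nat.card N := by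
      rw [Subgroup.one_lt_card_iff_ne_bot]
      exact hNbot
    have h3 : 0 < N.index := Nat.pos_of_ne_zero Subgroup.index_ne_zero_of_finite
    show N.index < n
    nlinarith
  obtain ⟨Pbar, hPn, hPab, hPp, hPi⟩ := ih _ hcardq (G ⧸ N) rfl (hquot G N hC)
    (degrees_quotient p N hdeg)
  set X := Pbar.comap (QuotientGroup.mk' N) with hXdef
  have hXn : X.Normal := hPn.comap _
  have hXi : X.index = Pbar.index :=
    Subgroup.index_comap_of_surjective _ (QuotientGroup.mk'_surjective N)
  have hXdeg := degrees_normal p X hdeg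
  rcases hNp with ⟨m, hm⟩ | hcop
  · have hXp : IsPGroup p X := by
      apply hPp.comap_of_ker_isPGroup
      rw [QuotientGroup.ker_mk']
      exact IsPGroup.of_card hm
    refine ⟨X, hXn, ?_, hXp, by rw [hXi]; exact hPi⟩
    have hlin : ∀ χ : Cfsg.IrrCharacter X, (χ : X → ℂ) 1 = 1 := by
      intro χ
      obtain ⟨k, hk⟩ := IsPGroup.iff_card.mp hXp
      have h1 := Cfsg.Agent.Lib.Helper24.degree_dvd_card χ.2
      rw [hk] at h1
      obtain ⟨j, -, hj⟩ := (Nat.dvd_prime_pow hp.out).mp h1
      rw [← Cfsg.Agent.Lib.Helper24.charDegree_cast (IsIrrCharacter.isCharacter χ.2), hj]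
      rcases Nat.eq_zero_or_pos j with rfl | hjpos
      · simp
      · exfalso
        apply hXdeg χ
        rw [hj]
        exact dvd_pow_self p hjpos.ne'
    intro x hx y hy
    exact congrArg Subtype.val (comm_of_all_linear hlin ⟨x, hx⟩ ⟨y, hy⟩)
  · by_cases hX : X = ⊤
    · have hPtop : ∀ a : G ⧸ N, a ∈ Pbar := by
        intro a
        induction a using QuotientGroup.induction_on with
        | _ g =>
          have : g ∈ X := by rw [hX]; trivial
          exact this
      have hq : IsPGroup p (G ⧸ N) := by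
        intro a
        obtain ⟨k, hk⟩ := hPp ⟨a, hPtop a⟩
        exact ⟨k, congrArg Subtype.val hk⟩
      apply normal_abelian_sylow_of_all_invariant p N hcop _ hq
        (fun a b => hPab a (hPtop a) b (hPtop b))
      intro g θ
      cases nonempty_fintype G
      obtain ⟨χ, hχ⟩ := Cfsg.Agent.Lib.Helper24.exists_irr_over N.subtype N.subtype_injective θ
      have h1 := inertia_index_dvd_degree N θ.2 χ.2 hχ
      have h2 : (inertia N (θ : N → ℂ)).index ∣ N.index :=
        Subgroup.index_dvd_of_le (le_inertia N θ.2 _ (fun g => mem_inertia N _ g))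
      obtain ⟨a, ha⟩ := IsPGroup.iff_card.mp hq
      have ha' : N.index = p ^ a := ha
      rw [ha'] at h2
      obtain ⟨j, -, hj⟩ := (Nat.dvd_prime_pow hp.out).mp h2
      have h3 : (inertia N (θ : N → ℂ)).index = 1 := by
        rcases Nat.eq_zero_or_pos j with rfl | hjpos
        · simpa using hj
        · exfalso
          apply hdeg χ
          refine dvd_trans ?_ h1
          rw [hj]
          exact dvd_pow_self p hjpos.ne'
      have h4 : g ∈ inertia N (θ : N → ℂ) := by
        rw [Subgroup.index_eq_one.mp h3]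
        trivial
      exact h4
    · have hcardX : Nat.card X < n := by
        rw [← hn]
        refine lt_of_le_of_ne (Subgroup.card_le_card_group X) ?_
        intro h
        exact hX (Subgroup.eq_top_of_card_eq X h)
      obtain ⟨Q, hQn, hQab, hQp, hQi⟩ := ih _ hcardX X rfl (hsub G X hC) hXdeg
      have hchar : Q.Characteristic :=
        Sylow.characteristic_of_normal (hQp.toSylow hQi) hQn
      refine ⟨Q.map X.subtype, ConjAct.normal_of_characteristic_of_normal, ?_,
        hQp.map _, ?_⟩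
      · rintro _ ⟨x, hx, rfl⟩ _ ⟨y, hy, rfl⟩
        exact congrArg Subtype.val (hQab x hx y hy)
      · rw [Subgroup.index_map_subtype, hXi]
        intro h
        rcases (Nat.Prime.dvd_mul hp.out).mp h with h | h
        · exact hQi h
        · exact hPi h

end Cfsg.Agent.Lib.Helper13
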