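import Cfsg.Agent.Lib.Helper13.SL2

set_option autoImplicit false

namespace Cfsg.Agent.Lib.Helper13

open Matrix

variable {F : Type*} [Field F] [Fintype F]

theorem ringChar_ne_two_of_odd (hodd : Odd (Fintype.card F)) : ringChar F ≠ 2 := by
  intro h
  have := FiniteField.even_card_iff_char_two.mp h
  rw [Nat.odd_iff] at hodd
  omega

theorem two_ne_zero_of_odd (hodd : Odd (Fintype.card F)) : (2 : F) ≠ 0 :=
  Ring.two_ne_zero (ringChar_ne_two_of_odd hodd)

/-- the product of two non-squares is a square -/
theorem isSquare_mul_of_not_isSquare {a b : F} (ha : ¬ IsSquare a) (hb : ¬ IsSquare b) :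
    IsSquare (a * b) := by
  classical
  have ha0 : a ≠ 0 := by rintro rfl; exact ha (IsSquare.zero)
  have hb0 : b ≠ 0 := by rintro rfl; exact hb (IsSquare.zero)
  rw [← quadraticChar_one_iff_isSquare (mul_ne_zero ha0 hb0), map_mul,
    quadraticChar_neg_one_iff_not_isSquare.mpr ha, quadraticChar_neg_one_iff_not_isSquare.mpr hb]
  norm_num

/-- a non-degenerate binary form `x² + t x y + y²` represents everything -/
theorem repr_of_ne (hodd : Odd (Fintype.card F)) (t : F) (ht : t ^ 2 ≠ 4) (c : F) :
    ∃ x y : F, x ^ 2 + x * y * t + y ^ 2 = c := by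
  have h2 : (2 : F) ≠ 0 := two_ne_zero_of_odd hodd
  have h4 : (4 : F) ≠ 0 := by
    have : (4 : F) = 2 * 2 := by norm_num
    rw [this]; exact mul_ne_zero h2 h2
  have hk : (1 - t ^ 2 / 4 : F) ≠ 0 := by
    intro h
    apply ht
    field_simp at h
    linear_combination -h
  obtain ⟨a, b, hab⟩ := FiniteField.exists_root_sum_quadratic
    (f := Polynomial.X ^ 2 - Polynomial.C c) (g := Polynomial.C (1 - t ^ 2 / 4) * Polynomial.X ^ 2)
    (Polynomial.degree_X_pow_sub_C (by decide) _)
    (by rw [Polynomial.degree_C_mul_X_pow 2 hk]; rfl) (Nat.odd_iff.mp hodd)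
  simp only [Polynomial.eval_sub, Polynomial.eval_pow, Polynomial.eval_X, Polynomial.eval_C,
    Polynomial.eval_mul] at hab
  refine ⟨a - t * b / 2, b, ?_⟩
  field_simp
  field_simp at hab
  linear_combination hab

/-- number of solutions of `(x + y)² = 1` -/
theorem card_sol_unip (hodd : Odd (Fintype.card F)) :
    Nat.card {xy : F × F // xy.1 ^ 2 + xy.1 * xy.2 * 2 + xy.2 ^ 2 = 1} = 2 * Fintype.card F := by
  classical
  have h2 : (2 : F) ≠ 0 := two_ne_zero_of_odd hodd
  have e : {xy : F × F // xy.1 ^ 2 + xy.1 * xy.2 * 2 + xy.2 ^ 2 = 1} ≃ Bool × F :=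
    { toFun := fun xy => (decide (xy.1.1 + xy.1.2 = 1), xy.1.1)
      invFun := fun sx => ⟨(sx.2, (if sx.1 then 1 else -1) - sx.2), by
        rcases sx with ⟨s, x⟩
        cases s <;> simp <;> ring⟩
      left_inv := by
        rintro ⟨⟨x, y⟩, h⟩
        apply Subtype.ext
        simp only [Prod.mk.injEq, true_and]
        have h3 : (x + y - 1) * (x + y + 1) = 0 := by linear_combination h
        by_cases h1 : x + y = 1
        · simp [h1]; linear_combination -h1
        · have h4 : x + y + 1 = 0 := (mul_eq_zero.mp h3).resolve_left (fun hh => h1 (sub_eq_zero.mp hh))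
          simp [h1]; linear_combination -h4
      right_inv := by
        rintro ⟨s, x⟩
        cases s
        · simp only [Prod.mk.injEq, and_true]
          simp
          intro h
          apply h2
          linear_combination -h
        · simp }
  rw [Nat.card_congr e, Nat.card_eq_fintype_card, Fintype.card_prod, Fintype.card_bool]

end Cfsg.Agent.Lib.Helper13
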