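import Mathlib
import Cfsg.Agent.Lib.Helper13.GL2

set_option autoImplicit false

namespace Cfsg.Agent.Lib.Helper13

open Matrix

/-- A matrix commuting with `diag(l, m)`, `l ≠ m`, is diagonal. -/
theorem diag_of_commute_diag {K : Type*} [Field K] (l m : K) (hlm : l ≠ m)
    (G : Matrix (Fin 2) (Fin 2) K) (h : G * !![l, 0; 0, m] = !![l, 0; 0, m] * G) :
    G 0 1 = 0 ∧ G 1 0 = 0 := by
  have e01 := congrFun (congrFun h 0) 1
  have e10 := congrFun (congrFun h 1) 0
  simp [Matrix.mul_apply, Fin.sum_univ_two] at e01 e10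
  constructor
  · have : G 0 1 * (m - l) = 0 := by linear_combination e01
    exact (mul_eq_zero.mp this).resolve_right (sub_ne_zero.mpr hlm.symm)
  · have : G 1 0 * (l - m) = 0 := by linear_combination e10
    exact (mul_eq_zero.mp this).resolve_right (sub_ne_zero.mpr hlm)

/-- A finite group mapping injectively and multiplicatively to determinant one matrices over a
field `K` commuting with a matrix conjugate to `diag(l, m)`, `l ≠ m`, is cyclic. -/
theorem isCyclic_of_commute_diag {K : Type*} [Field K] {H : Type*} [Group H] [Finite H]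
    (φ : H →* Matrix (Fin 2) (Fin 2) K) (hφ : Function.Injective φ) (hdet : ∀ g, (φ g).det = 1)
    (Z X : Matrix (Fin 2) (Fin 2) K) (l m : K) (hlm : l ≠ m) (hX : X.det ≠ 0)
    (hXZ : X * Z = !![l, 0; 0, m] * X) (hc : ∀ g, φ g * Z = Z * φ g) : IsCyclic H := by
  have hXu : IsUnit X.det := isUnit_iff_ne_zero.mpr hX
  have h1 : X * X⁻¹ = 1 := Matrix.mul_nonsing_inv _ hXu
  have h2 : X⁻¹ * X = 1 := Matrix.nonsing_inv_mul _ hXu
  have hZ : Z = X⁻¹ * !![l, 0; 0, m] * X := by
    rw [Matrix.mul_assoc, ← hXZ, ← Matrix.mul_assoc, h2, Matrix.one_mul]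
  have hdiag : ∀ g, (X * φ g * X⁻¹) 0 1 = 0 ∧ (X * φ g * X⁻¹) 1 0 = 0 := by
    intro g
    apply diag_of_commute_diag l m hlm
    have hD : !![l, 0; 0, m] = X * Z * X⁻¹ := by
      rw [hXZ, Matrix.mul_assoc, h1, Matrix.mul_one]
    rw [hD]
    calc X * φ g * X⁻¹ * (X * Z * X⁻¹) = X * φ g * (X⁻¹ * X) * Z * X⁻¹ := by
          simp only [Matrix.mul_assoc]
      _ = X * (φ g * Z) * X⁻¹ := by rw [h2, Matrix.mul_one]; simp only [Matrix.mul_assoc]
      _ = X * (Z * φ g) * X⁻¹ := by rw [hc]
      _ = X * Z * (X⁻¹ * X) * φ g * X⁻¹ := by rw [h2, Matrix.mul_one]; simp only [Matrix.mul_assoc]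
      _ = X * Z * X⁻¹ * (X * φ g * X⁻¹) := by simp only [Matrix.mul_assoc]
  have hmul : ∀ g h, X * φ (g * h) * X⁻¹ = (X * φ g * X⁻¹) * (X * φ h * X⁻¹) := by
    intro g h
    rw [map_mul]
    calc X * (φ g * φ h) * X⁻¹ = X * φ g * 1 * φ h * X⁻¹ := by
          rw [Matrix.mul_one]; simp only [Matrix.mul_assoc]
      _ = _ := by rw [← h2]; simp only [Matrix.mul_assoc]
  let f : H →* K :=
    { toFun := fun g => (X * φ g * X⁻¹) 0 0
      map_one' := by
        show (X * φ 1 * X⁻¹) 0 0 = 1
        rw [map_one, Matrix.mul_one, h1]; simp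
      map_mul' := by
        intro g h
        show (X * φ (g * h) * X⁻¹) 0 0 = (X * φ g * X⁻¹) 0 0 * (X * φ h * X⁻¹) 0 0
        rw [hmul, Matrix.mul_apply, Fin.sum_univ_two, (hdiag g).1, zero_mul, add_zero] }
  apply isCyclic_of_injective_ringHom f
  intro g h hgh
  have hgh' : (X * φ g * X⁻¹) 0 0 = (X * φ h * X⁻¹) 0 0 := hgh
  have hd : ∀ g, (X * φ g * X⁻¹) 0 0 * (X * φ g * X⁻¹) 1 1 = 1 := by
    intro g
    have : (X * φ g * X⁻¹).det = 1 := by
      rw [Matrix.det_mul, Matrix.det_mul, hdet, mul_one, ← Matrix.det_mul, h1, Matrix.det_one]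
    rw [Matrix.det_fin_two, (hdiag g).1, zero_mul, sub_zero] at this
    exact this
  have h11 : (X * φ g * X⁻¹) 1 1 = (X * φ h * X⁻¹) 1 1 := by
    have hne : (X * φ g * X⁻¹) 0 0 ≠ 0 := left_ne_zero_of_mul_eq_one (hd g)
    apply mul_left_cancel₀ hne
    rw [hd g, hgh', hd h]
  have heq : X * φ g * X⁻¹ = X * φ h * X⁻¹ := by
    ext i j
    fin_cases i <;> fin_cases j
    · exact hgh'
    · exact (hdiag g).1.trans (hdiag h).1.symm
    · exact (hdiag g).2.trans (hdiag h).2.symm
    · exact h11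
  apply hφ
  calc φ g = X⁻¹ * (X * φ g * X⁻¹) * X := by
        rw [← Matrix.mul_assoc, ← Matrix.mul_assoc, h2, Matrix.one_mul, Matrix.mul_assoc, h2,
          Matrix.mul_one]
    _ = X⁻¹ * (X * φ h * X⁻¹) * X := by rw [heq]
    _ = φ h := by
        rw [← Matrix.mul_assoc, ← Matrix.mul_assoc, h2, Matrix.one_mul, Matrix.mul_assoc, h2,
          Matrix.mul_one]

/-- A finite subgroup of `SL₂(F)` centralising an element `z` with `tr(z)² ≠ 4` is cyclic. -/
theorem isCyclic_of_commute_semisimple {F : Type*} [Field F]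
    (H : Subgroup (Matrix.SpecialLinearGroup (Fin 2) F)) [Finite H]
    (z : Matrix.SpecialLinearGroup (Fin 2) F)
    (hz : (z : Matrix (Fin 2) (Fin 2) F).trace ^ 2 ≠ 4) (hH : ∀ g ∈ H, g * z = z * g) :
    IsCyclic H := by
  let K := AlgebraicClosure F
  set t : F := (z : Matrix (Fin 2) (Fin 2) F).trace with ht
  let a : F →+* K := algebraMap F K
  have ha : Function.Injective a := (algebraMap F K).injective
  obtain ⟨l, hl⟩ := IsAlgClosed.exists_root
    (Polynomial.X ^ 2 - Polynomial.C (a t) * Polynomial.X + Polynomial.C (1 : K))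
    (by
      have : (Polynomial.X ^ 2 - Polynomial.C (a t) * Polynomial.X + Polynomial.C (1 : K)).degree
          = 2 := by compute_degree!
      rw [this]; decide)
  simp only [Polynomial.IsRoot.def, Polynomial.eval_add, Polynomial.eval_sub, Polynomial.eval_pow,
    Polynomial.eval_X, Polynomial.eval_mul, Polynomial.eval_C] at hl
  set m : K := a t - l with hm
  have hlm1 : l * m = 1 := by rw [hm]; linear_combination -hl
  have hat : a t ^ 2 ≠ 4 := by
    intro h
    apply hz
    apply ha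
    rw [map_pow, h, map_ofNat]
  have hlm : l ≠ m := by
    intro h
    apply hat
    have h1 : a t = 2 * l := by rw [hm] at h; linear_combination -h
    have h2 : l * l = 1 := by nth_rewrite 2 [h]; exact hlm1
    rw [h1]; linear_combination 4 * h2
  let Z : Matrix (Fin 2) (Fin 2) K := a.mapMatrix (z : Matrix (Fin 2) (Fin 2) F)
  have hZtr : Z.trace = a t := by
    simp only [Z, ht, Matrix.trace_fin_two, RingHom.mapMatrix_apply, Matrix.map_apply, map_add]
  have hZdet : Z.det = 1 := by
    have := (RingHom.map_det a (z : Matrix (Fin 2) (Fin 2) F)).symm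
    rw [z.2, map_one] at this
    exact this
  have hZns : NonScal Z := by
    by_contra hns
    simp only [NonScal, not_or, not_not] at hns
    obtain ⟨h01, h10, h00⟩ := hns
    apply hat
    rw [← hZtr, Matrix.trace_fin_two, ← h00]
    rw [Matrix.det_fin_two, h01, ← h00] at hZdet
    linear_combination 4 * hZdet
  have hDns : NonScal (!![l, 0; 0, m] : Matrix (Fin 2) (Fin 2) K) := by
    right; right; simpa using hlm
  obtain ⟨X, hX, hXZ⟩ := exists_conj_of_trace_det Z !![l, 0; 0, m] hZns hDns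
    (by rw [hZtr, Matrix.trace_fin_two]; simp [hm])
    (by rw [hZdet, Matrix.det_fin_two]; simp [hlm1])
  let φ : H →* Matrix (Fin 2) (Fin 2) K :=
    { toFun := fun g => a.mapMatrix ((g : Matrix.SpecialLinearGroup (Fin 2) F) :
        Matrix (Fin 2) (Fin 2) F)
      map_one' := by simp
      map_mul' := by
        intro g h
        simp only [Subgroup.coe_mul, Matrix.SpecialLinearGroup.coe_mul, map_mul] }
  refine isCyclic_of_commute_diag φ ?_ ?_ Z X l m hlm hX hXZ ?_
  · intro g h hgh
    apply Subtype.ext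
    apply Subtype.ext
    have hgh' : a.mapMatrix ((g : Matrix.SpecialLinearGroup (Fin 2) F) :
        Matrix (Fin 2) (Fin 2) F) = a.mapMatrix ((h : Matrix.SpecialLinearGroup (Fin 2) F) :
        Matrix (Fin 2) (Fin 2) F) := hgh
    ext i j
    apply ha
    exact congrFun (congrFun hgh' i) j
  · intro g
    have := (RingHom.map_det a ((g : Matrix.SpecialLinearGroup (Fin 2) F) :
      Matrix (Fin 2) (Fin 2) F)).symm
    rw [(g : Matrix.SpecialLinearGroup (Fin 2) F).2, map_one] at this
    exact this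
  · intro g
    have h1 := congrArg (fun x : Matrix.SpecialLinearGroup (Fin 2) F =>
      a.mapMatrix (x : Matrix (Fin 2) (Fin 2) F)) (hH g g.2)
    simp only [Matrix.SpecialLinearGroup.coe_mul, map_mul] at h1
    exact h1

/-- Cayley–Hamilton for `SL₂`. -/
theorem SL2_sq {F : Type*} [Field F] (z : Matrix.SpecialLinearGroup (Fin 2) F) :
    (z : Matrix (Fin 2) (Fin 2) F) * (z : Matrix (Fin 2) (Fin 2) F) =
      (z : Matrix (Fin 2) (Fin 2) F).trace • (z : Matrix (Fin 2) (Fin 2) F) - 1 := by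
  have hd := z.2
  rw [Matrix.det_fin_two] at hd
  ext i j
  fin_cases i <;> fin_cases j <;>
    simp [Matrix.mul_apply, Fin.sum_univ_two, Matrix.trace_fin_two]
  · linear_combination -hd
  · ring
  · ring
  · linear_combination -hd

/-- An element of `SL₂(F)`, `char F = p`, with `tr² = 4` satisfies `z^(2p) = 1`. -/
theorem pow_two_mul_char_eq_one {F : Type*} [Field F] (p : ℕ) [Fact p.Prime] [CharP F p]
    (z : Matrix.SpecialLinearGroup (Fin 2) F)
    (hz : (z : Matrix (Fin 2) (Fin 2) F).trace ^ 2 = 4) : z ^ (2 * p) = 1 := by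
  obtain ⟨e, he, hte⟩ : ∃ e : F, e ^ 2 = 1 ∧ (z : Matrix (Fin 2) (Fin 2) F).trace = 2 * e := by
    have : ((z : Matrix (Fin 2) (Fin 2) F).trace - 2) * ((z : Matrix (Fin 2) (Fin 2) F).trace + 2)
        = 0 := by linear_combination hz
    rcases mul_eq_zero.mp this with h | h
    · exact ⟨1, by norm_num, by linear_combination h⟩
    · exact ⟨-1, by norm_num, by linear_combination h⟩
  set M : Matrix (Fin 2) (Fin 2) F := (z : Matrix (Fin 2) (Fin 2) F) with hM
  have hsq : (M - e • 1) ^ 2 = 0 := by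
    have h := SL2_sq z
    rw [← hM, hte] at h
    rw [pow_two, sub_mul, mul_sub, mul_sub, h]
    simp only [Matrix.smul_mul, Matrix.mul_smul, Matrix.one_mul, Matrix.mul_one, smul_smul]
    have : e * e = 1 := by rw [← pow_two]; exact he
    rw [this, one_smul, two_mul, add_smul]
    abel
  have hp2 : 2 ≤ p := (Fact.out : p.Prime).two_le
  have hpz : (M - e • 1) ^ p = 0 := by
    obtain ⟨k, rfl⟩ := Nat.exists_eq_add_of_le hp2
    rw [pow_add, hsq, zero_mul]
  have hcomm : Commute M (e • (1 : Matrix (Fin 2) (Fin 2) F)) := by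
    show M * _ = _ * M
    simp
  rw [sub_pow_char_of_commute _ hcomm, sub_eq_zero] at hpz
  apply Subtype.ext
  rw [Matrix.SpecialLinearGroup.coe_pow, ← hM, mul_comm, pow_mul, hpz, smul_pow, one_pow, smul_pow,
    one_pow, ← pow_mul, mul_comm, pow_mul, he, one_pow, one_smul]
  rfl

end Cfsg.Agent.Lib.Helper13
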