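import Mathlib
import Cfsg.Agent.Lib.Helper13.SL2Tori
import Cfsg.Agent.Lib.Helper13.SL2Odd
import Cfsg.Agent.Lib.Helper18.UniqueInvolution

set_option autoImplicit false

namespace Cfsg.Agent.Lib.Helper13

open Matrix

/-- The only involution of `SL₂(F)`, `char F ≠ 2`, is `-1`. -/
theorem SL2_eq_neg_one_of_mul_self {F : Type*} [Field F] (h2 : (2 : F) ≠ 0)
    (u : Matrix.SpecialLinearGroup (Fin 2) F) (hu : u * u = 1) (hu1 : u ≠ 1) : u = -1 := by
  have h := SL2_sq u
  have hu' : (u : Matrix (Fin 2) (Fin 2) F) * (u : Matrix (Fin 2) (Fin 2) F) = 1 := by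
    rw [← Matrix.SpecialLinearGroup.coe_mul, hu]; rfl
  rw [hu'] at h
  set t := (u : Matrix (Fin 2) (Fin 2) F).trace with ht
  have e00 := congrFun (congrFun h 0) 0
  have e01 := congrFun (congrFun h 0) 1
  have e10 := congrFun (congrFun h 1) 0
  have e11 := congrFun (congrFun h 1) 1
  simp at e00 e01 e10 e11
  have ht0 : t ≠ 0 := by
    intro h0
    rw [h0] at e00
    apply h2
    linear_combination e00
  have h01 : u 0 1 = 0 := e01.resolve_left ht0
  have h10 : u 1 0 = 0 := e10.resolve_left ht0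
  have h0011 : u 0 0 = u 1 1 := by
    apply mul_left_cancel₀ ht0
    linear_combination e11 - e00
  have hd := u.2
  rw [Matrix.det_fin_two, h01, ← h0011] at hd
  have hc : (u 0 0 - 1) * (u 0 0 + 1) = 0 := by linear_combination hd
  rcases mul_eq_zero.mp hc with hc | hc
  · exfalso
    apply hu1
    apply SL_ext
    ext i j
    fin_cases i <;> fin_cases j
    · simpa using sub_eq_zero.mp hc
    · simpa using h01
    · simpa using h10
    · simpa using h0011.symm.trans (sub_eq_zero.mp hc)
  · apply SL_ext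
    ext i j
    fin_cases i <;> fin_cases j
    · simpa using eq_neg_of_add_eq_zero_left hc
    · simpa using h01
    · simpa using h10
    · simpa using h0011.symm.trans (eq_neg_of_add_eq_zero_left hc)

/-- `SL₂(q)`, `q` odd, contains a non-abelian `2`-subgroup. -/
theorem exists_nonabelian_two_subgroup {F : Type*} [Field F] [Fintype F]
    (hodd : Odd (Fintype.card F)) :
    ∃ Q : Subgroup (Matrix.SpecialLinearGroup (Fin 2) F), IsPGroup 2 Q ∧
      ∃ i ∈ Q, ∃ j ∈ Q, i * j ≠ j * i := by
  have h2 : (2 : F) ≠ 0 := two_ne_zero_of_odd hodd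
  obtain ⟨a, b, hab⟩ := repr_of_ne hodd 0 (by
    intro h
    have h4 : (4 : F) = 2 * 2 := by norm_num
    rw [h4] at h
    exact mul_ne_zero h2 h2 (by rw [← h]; ring)) (-1)
  have hab' : a ^ 2 + b ^ 2 = -1 := by linear_combination hab
  let i : Matrix.SpecialLinearGroup (Fin 2) F := mkSL !![0, 1; -1, 0] (by simp [Matrix.det_fin_two])
  let j : Matrix.SpecialLinearGroup (Fin 2) F := mkSL !![a, b; b, -a] (by
    rw [Matrix.det_fin_two]; simp; linear_combination -hab')
  have hi4 : i ^ 4 = 1 := by
    apply SL_ext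
    simp only [i, Matrix.SpecialLinearGroup.coe_pow, mkSL_coe]
    ext x y
    fin_cases x <;> fin_cases y <;> simp [pow_succ, Matrix.mul_apply, Fin.sum_univ_two]
  have hj4 : j ^ 4 = 1 := by
    apply SL_ext
    simp only [j, Matrix.SpecialLinearGroup.coe_pow, mkSL_coe]
    ext x y
    fin_cases x <;> fin_cases y <;> simp [pow_succ, Matrix.mul_apply, Fin.sum_univ_two]
    · linear_combination (a ^ 2 + b ^ 2 - 1) * hab'
    · ring
    · ring
    · linear_combination (a ^ 2 + b ^ 2 - 1) * hab'
  have hji : j * i * j⁻¹ = i⁻¹ := by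
    rw [mul_inv_eq_iff_eq_mul]
    apply SL_ext
    simp only [i, j, Matrix.SpecialLinearGroup.coe_mul, mkSL_coe,
      Matrix.SpecialLinearGroup.coe_inv, Matrix.adjugate_fin_two]
    ext x y
    fin_cases x <;> fin_cases y <;> simp [Matrix.mul_apply, Fin.sum_univ_two]
  have hPi : IsPGroup 2 (Subgroup.zpowers i) := by
    apply IsPGroup.of_card (n := Nat.log 2 (orderOf i))
    rw [Nat.card_zpowers]
    have : orderOf i ∣ 2 ^ 2 := orderOf_dvd_of_pow_eq_one (by simpa using hi4)
    obtain ⟨k, _, hk⟩ := (Nat.dvd_prime_pow Nat.prime_two).mp this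
    rw [hk, Nat.log_pow (by norm_num)]
  have hPj : IsPGroup 2 (Subgroup.zpowers j) := by
    apply IsPGroup.of_card (n := Nat.log 2 (orderOf j))
    rw [Nat.card_zpowers]
    have : orderOf j ∣ 2 ^ 2 := orderOf_dvd_of_pow_eq_one (by simpa using hj4)
    obtain ⟨k, _, hk⟩ := (Nat.dvd_prime_pow Nat.prime_two).mp this
    rw [hk, Nat.log_pow (by norm_num)]
  have hnorm : Subgroup.zpowers j ≤ Subgroup.normalizer (Subgroup.zpowers i) := by
    rw [Subgroup.zpowers_le, Subgroup.mem_normalizer_iff_map_conj_eq]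
    have : (Subgroup.zpowers i).map (MulAut.conj j).toMonoidHom = Subgroup.zpowers i := by
      rw [MonoidHom.map_zpowers]
      show Subgroup.zpowers (j * i * j⁻¹) = _
      rw [hji, Subgroup.zpowers_inv]
    exact this
  refine ⟨Subgroup.zpowers j ⊔ Subgroup.zpowers i, IsPGroup.to_sup_of_normal_right' hPj hPi hnorm,
    i, Subgroup.mem_sup_right (Subgroup.mem_zpowers i), j,
    Subgroup.mem_sup_left (Subgroup.mem_zpowers j), ?_⟩
  intro h
  have h1 : i = i⁻¹ := by
    rw [← hji, ← h]; group
  have h3 := congrArg (fun x : Matrix.SpecialLinearGroup (Fin 2) F => x 0 1) h1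
  simp only [i, Matrix.SpecialLinearGroup.coe_inv, mkSL_coe, Matrix.adjugate_fin_two] at h3
  simp at h3
  apply h2
  linear_combination h3

/-- A finite `2`-group embedding in `SL₂(F)`, `char F ≠ 2`, is cyclic or generalised quaternion. -/
theorem cyclic_or_quaternion_of_embeds_SL2 {F : Type*} [Field F] (h2 : (2 : F) ≠ 0)
    {S : Type*} [Group S] [Finite S] (hS : IsPGroup 2 S)
    (f : S →* Matrix.SpecialLinearGroup (Fin 2) F) (hf : Function.Injective f) :
    IsCyclic S ∨ ∃ m : ℕ, Nonempty (S ≃* QuaternionGroup (2 ^ (m + 1))) := by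
  apply Cfsg.Agent.Lib.Helper18.cyclic_or_quaternion_of_unique_involution hS
  have key : ∀ u : S, orderOf u = 2 → f u = -1 := by
    intro u hu
    apply SL2_eq_neg_one_of_mul_self h2
    · have h1 : u ^ 2 = 1 := by rw [← hu]; exact pow_orderOf_eq_one u
      rw [← map_mul, ← pow_two, h1, map_one]
    · intro h
      have : u = 1 := hf (by rw [h, map_one])
      rw [this, orderOf_one] at hu
      norm_num at hu
  intro u v hu hv
  exact hf ((key u hu).trans (key v hv).symm)

end Cfsg.Agent.Lib.Helper13
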