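import Mathlib
import Cfsg.Agent.Lib.Helper23.Brauer
import Cfsg.Agent.Lib.Helper2.Inflation

set_option autoImplicit false
set_option linter.style.haveILetI false
set_option linter.unusedSectionVars false

/-! Class functions `x ↦ n f(x_π)` are combinations of irreducible characters with algebraic
integer coefficients (Isaacs 8.19). -/

namespace Cfsg.Agent.Lib.Helper13.SectionFn

open Cfsg.Agent.Lib.Helper2 Cfsg.Agent.Lib.Helper13 Cfsg.Agent.Lib.Lead Cfsg.Agent.Lib.Helper24
open Cfsg.Agent.Lib.Helper23.IndTools Cfsg.Agent.Lib.Helper23.Brauer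
open scoped ComplexConjugate

universe u

theorem pow_mul_of_central_prod {E : Type*} [Group E] (Z P : Subgroup E)
    (hZ : Z ≤ Subgroup.center E) (hZP : ∀ x : E, ∃ z ∈ Z, ∃ y ∈ P, x = z * y) (e : ℕ)
    (hP : (∀ y ∈ P, y ^ e = 1) ∨ (∀ y ∈ P, y ^ e = y)) (x x' : E) :
    (x * x') ^ e = x ^ e * x' ^ e := by
  obtain ⟨z, hz, y, hy, rfl⟩ := hZP x
  obtain ⟨z', hz', y', hy', rfl⟩ := hZP x'
  have cz : ∀ w, Commute z w := fun w => (Subgroup.mem_center_iff.mp (hZ hz) w).symm
  have cz' : ∀ w, Commute z' w := fun w => (Subgroup.mem_center_iff.mp (hZ hz') w).symm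
  have e1 : z * y * (z' * y') = (z * z') * (y * y') := by
    have := (cz' y).eq
    calc z * y * (z' * y') = z * (y * z') * y' := by group
      _ = z * (z' * y) * y' := by rw [this]
      _ = (z * z') * (y * y') := by group
  rw [e1, ((cz _).mul_left (cz' _)).mul_pow, (cz z').mul_pow, (cz y).mul_pow, (cz' y').mul_pow]
  rcases hP with h | h
  · rw [h _ (P.mul_mem hy hy'), h _ hy, h _ hy']
    simp
  · rw [h _ (P.mul_mem hy hy'), h _ hy, h _ hy']
    have := ((cz' y).pow_left e).eq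
    calc z ^ e * z' ^ e * (y * y') = z ^ e * (z' ^ e * y) * y' := by group
      _ = z ^ e * (y * z' ^ e) * y' := by rw [this]
      _ = z ^ e * y * (z' ^ e * y') := by group

theorem exists_central_prod_of_isElementary {q : ℕ} (hq : q.Prime) {E : Type*} [Group E] [Finite E]
    (h : Cfsg.IsElementary q E) :
    ∃ Z P : Subgroup E, Z ≤ Subgroup.center E ∧ IsPGroup q P ∧
      ∀ x : E, ∃ z ∈ Z, ∃ y ∈ P, x = z * y := by
  haveI := Fact.mk hq
  obtain ⟨c, hc, hcop, k, hk⟩ := h
  have hle : Subgroup.zpowers c ≤ Subgroup.center E := by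
    rw [Subgroup.zpowers_le]; exact hc
  haveI hnorm : (Subgroup.zpowers c).Normal := by
    constructor
    intro n hn g
    have := Subgroup.mem_center_iff.1 (hle hn) g
    rw [this, mul_assoc, mul_inv_cancel, mul_one]
    exact hn
  obtain ⟨P⟩ : Nonempty (Sylow q E) := inferInstance
  have hCP : Subgroup.zpowers c ⊔ (P : Subgroup E) = ⊤ := by
    rw [← Subgroup.index_eq_one]
    have h1 : (Subgroup.zpowers c ⊔ (P : Subgroup E)).index ∣ q ^ k := by
      rw [← hk]; exact Subgroup.index_dvd_of_le le_sup_left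
    obtain ⟨j, _, hj⟩ := (Nat.dvd_prime_pow hq).1 h1
    rcases Nat.eq_zero_or_pos j with rfl | hj0
    · simpa using hj
    · exfalso
      apply P.not_dvd_index
      apply Dvd.dvd.trans _ (Subgroup.index_dvd_of_le
        (le_sup_right : (P : Subgroup E) ≤ Subgroup.zpowers c ⊔ P))
      rw [hj]; exact dvd_pow_self q hj0.ne'
  refine ⟨Subgroup.zpowers c, P, hle, P.2, fun x => ?_⟩
  have hx : x ∈ ((Subgroup.zpowers c ⊔ (P : Subgroup E) : Subgroup E) : Set E) := by
    rw [hCP]; trivial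
  rw [Subgroup.normal_mul] at hx
  obtain ⟨z, hz, y, hy, rfl⟩ := Set.mem_mul.mp hx
  exact ⟨z, hz, y, hy, rfl⟩

theorem isIntegral_conj' {z : ℂ} (hz : IsIntegral ℤ z) : IsIntegral ℤ (conj z) :=
  hz.map ((starRingEnd ℂ).toIntAlgHom)

section main

variable {G : Type u} [Group G] [Fintype G] {m n e : ℕ}

theorem pow_e_of_coprime_n (hmn : Nat.card G = m * n) (he0 : m ∣ e) {y : G}
    (h : Nat.Coprime (orderOf y) n) : y ^ e = 1 := by
  have h1 : orderOf y ∣ m * n := hmn ▸ orderOf_dvd_natCard y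
  exact orderOf_dvd_iff_pow_eq_one.mp ((h.dvd_of_dvd_mul_right h1).trans he0)

theorem pow_e_of_coprime_m (hmn : Nat.card G = m * n) (he1 : e ≡ 1 [MOD n]) {y : G}
    (h : Nat.Coprime (orderOf y) m) : y ^ e = y := by
  have h1 : orderOf y ∣ m * n := hmn ▸ orderOf_dvd_natCard y
  have h2 : orderOf y ∣ n := h.dvd_of_dvd_mul_left h1
  have h3 : y ^ e = y ^ 1 := pow_eq_pow_iff_modEq.mpr (he1.of_dvd h2)
  rwa [pow_one] at h3

theorem pow_mul_elementary (hmn : Nat.card G = m * n) (hcop : Nat.Coprime m n) (he0 : m ∣ e)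
    (he1 : e ≡ 1 [MOD n]) (E : Subgroup G) {q : ℕ} (hq : q.Prime) (hel : Cfsg.IsElementary q E)
    (x x' : E) : (x * x') ^ e = x ^ e * x' ^ e := by
  haveI := Fact.mk hq
  obtain ⟨Z, P, hZ, hP, hZP⟩ := exists_central_prod_of_isElementary hq hel
  apply pow_mul_of_central_prod Z P hZ hZP
  have hord : ∀ y ∈ P, ∃ i : ℕ, orderOf ((y : E) : G) = q ^ i := by
    intro y hy
    obtain ⟨i, hi⟩ := (IsPGroup.iff_orderOf.mp hP) ⟨y, hy⟩
    have h1 : orderOf (⟨y, hy⟩ : P) = orderOf y := Subgroup.orderOf_mk y hy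
    have h2 : orderOf ((y : E) : G) = orderOf y := Subgroup.orderOf_coe y
    exact ⟨i, by rw [h2, ← h1, hi]⟩
  by_cases hqm : q ∣ m
  · left
    intro y hy
    obtain ⟨i, hi⟩ := hord y hy
    apply Subtype.ext
    rw [Subgroup.coe_pow, Subgroup.coe_one]
    apply pow_e_of_coprime_n hmn he0
    rw [hi]
    apply Nat.Coprime.pow_left
    rw [Nat.Prime.coprime_iff_not_dvd hq]
    intro hqn
    exact hq.one_lt.ne' (Nat.eq_one_of_dvd_coprimes hcop hqm hqn)
  · right
    intro y hy
    obtain ⟨i, hi⟩ := hord y hy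
    apply Subtype.ext
    rw [Subgroup.coe_pow]
    apply pow_e_of_coprime_m hmn he1
    rw [hi]
    apply Nat.Coprime.pow_left
    rwa [Nat.Prime.coprime_iff_not_dvd hq]

theorem index_ker_dvd {E : Type*} [Group E] [Finite E] (hE : Nat.card E ∣ m * n)
    (hcop : Nat.Coprime m n) (π : E →* E) (hπ : ∀ x, (π x) ^ n = 1) : π.ker.index ∣ n := by
  rw [Subgroup.index_ker]
  have h1 : Nat.card π.range ∣ m * n := (Subgroup.card_subgroup_dvd_card _).trans hE
  apply Nat.Coprime.dvd_of_dvd_mul_left _ h1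
  apply Nat.coprime_of_dvd
  intro r hr h2 h3
  haveI := Fact.mk hr
  obtain ⟨⟨y, x, rfl⟩, hy⟩ := exists_prime_orderOf_dvd_card' r h2
  have h4 : r ∣ n := by
    rw [← hy]
    apply orderOf_dvd_of_pow_eq_one
    apply Subtype.ext
    exact hπ x
  exact hr.one_lt.ne' (Nat.eq_one_of_dvd_coprimes hcop h3 h4)

theorem inner_isIntegral (hmn : Nat.card G = m * n) (hcop : Nat.Coprime m n) (he0 : m ∣ e)
    (he1 : e ≡ 1 [MOD n]) (f : G → ℂ) (hf : ∀ v, IsIntegral ℤ (f v)) (E : Subgroup G) [Fintype E]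
    {q : ℕ} (hq : q.Prime) (hel : Cfsg.IsElementary q E) (lam : E →* ℂˣ) :
    IsIntegral ℤ (Cfsg.classInner (fun x : E => (lam x : ℂ))
      (fun x : E => (n : ℂ) * f ((x : G) ^ e))) := by
  classical
  let π : E →* E := MonoidHom.mk' (fun x => x ^ e) (pow_mul_elementary hmn hcop he0 he1 E hq hel)
  have hπ : ∀ x, π x = x ^ e := fun _ => rfl
  have hinv : ∀ (x a : E), a ∈ π.ker → ((x * a : E) : G) ^ e = (x : G) ^ e := by
    intro x a ha
    have h1 : π (x * a) = π x := by rw [map_mul, MonoidHom.mem_ker.mp ha, mul_one]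
    rw [hπ, hπ] at h1
    simpa using congrArg Subtype.val h1
  have hidx : π.ker.index ∣ n := by
    apply index_ker_dvd ((Subgroup.card_subgroup_dvd_card E).trans hmn.dvd) hcop
    intro x
    apply Subtype.ext
    rw [hπ, ← pow_mul, Subgroup.coe_pow, Subgroup.coe_one]
    apply orderOf_dvd_iff_pow_eq_one.mp
    exact (hmn ▸ orderOf_dvd_natCard (x : G)).trans (Nat.mul_dvd_mul_right he0 n)
  by_cases hA : ∀ a ∈ π.ker, lam a = 1
  · letI : Fintype (E ⧸ π.ker) := Fintype.ofFinite _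
    have key : Cfsg.classInner (fun x : E => (lam x : ℂ)) (fun x : E => (n : ℂ) * f ((x : G) ^ e)) =
        Cfsg.classInner (fun q : E ⧸ π.ker => (lam q.out : ℂ))
          (fun q : E ⧸ π.ker => (n : ℂ) * f ((q.out : G) ^ e)) := by
      rw [← classInner_inflate π.ker]
      congr 1
      · funext x
        obtain ⟨a, ha⟩ := QuotientGroup.mk_out_eq_mul π.ker x
        rw [ha, map_mul, hA a a.2, mul_one]
      · funext x
        obtain ⟨a, ha⟩ := QuotientGroup.mk_out_eq_mul π.ker x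
        rw [ha, hinv x a a.2]
    rw [key, Cfsg.classInner, Finset.mul_sum]
    obtain ⟨n', hn'⟩ := hidx
    have hidx0 : (π.ker.index : ℂ) ≠ 0 := by
      have := Subgroup.index_ne_zero_of_finite (H := π.ker)
      exact_mod_cast this
    refine IsIntegral.sum _ fun q _ => ?_
    have h1 : (Nat.card (E ⧸ π.ker) : ℂ)⁻¹ * ((lam q.out : ℂ) * conj ((n : ℂ) * f ((q.out : G) ^ e))) =
        (lam q.out : ℂ) * ((n' : ℂ) * conj (f ((q.out : G) ^ e))) := by
      have h2 : Nat.card (E ⧸ π.ker) = π.ker.index := rfl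
      rw [h2, map_mul, Complex.conj_natCast, hn']
      push_cast
      field_simp
    rw [h1]
    refine IsIntegral.mul ?_ (IsIntegral.mul (isIntegral_natCast _) (isIntegral_conj' (hf _)))
    exact char_isIntegral (IsIrrCharacter.isCharacter (isIrrCharacter_of_hom lam)) _
  · push Not at hA
    obtain ⟨a, ha, hne⟩ := hA
    have hS : ∑ x : E, (lam x : ℂ) * conj ((n : ℂ) * f ((x : G) ^ e)) = 0 := by
      have h1 : ∑ x : E, (lam x : ℂ) * conj ((n : ℂ) * f ((x : G) ^ e)) =
          (lam a : ℂ) * ∑ x : E, (lam x : ℂ) * conj ((n : ℂ) * f ((x : G) ^ e)) := by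
        rw [Finset.mul_sum]
        refine (Fintype.sum_equiv (Equiv.mulRight a) _ _ fun x => ?_).symm
        simp only [Equiv.coe_mulRight]
        rw [hinv x a ha, map_mul lam, Units.val_mul]
        ring
      have h2 : (1 - (lam a : ℂ)) * ∑ x : E, (lam x : ℂ) * conj ((n : ℂ) * f ((x : G) ^ e)) = 0 := by
        linear_combination h1
      rcases mul_eq_zero.mp h2 with h3 | h3
      · exfalso
        apply hne
        apply Units.ext
        rw [Units.val_one]
        linear_combination -h3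
      · exact h3
    rw [Cfsg.classInner, hS, mul_zero]
    exact isIntegral_zero

theorem isClassFunction_section (f : G → ℂ) (hfc : Cfsg.IsClassFunction G f) (c : ℂ) (e : ℕ) :
    Cfsg.IsClassFunction G (fun x => c * f (x ^ e)) := by
  intro g h
  simp only
  rw [conj_pow, hfc]

theorem section_inner_isIntegral (hmn : Nat.card G = m * n) (hcop : Nat.Coprime m n) (he0 : m ∣ e)
    (he1 : e ≡ 1 [MOD n]) (f : G → ℂ) (hf : ∀ v, IsIntegral ℤ (f v))
    (hfc : Cfsg.IsClassFunction G f) {χ : G → ℂ} (hχ : Cfsg.IsCharacter G χ) :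
    IsIntegral ℤ (Cfsg.classInner χ (fun x => (n : ℂ) * f (x ^ e))) := by
  classical
  have h := brauer hχ
  clear hχ
  unfold elSpan at h
  induction h using Submodule.span_induction with
  | mem φ hφ =>
    obtain ⟨E, lam, ⟨q, hq, hel⟩, rfl⟩ := hφ
    rw [frobenius_reciprocity _ _ _ (isClassFunction_section f hfc _ e)]
    exact inner_isIntegral hmn hcop he0 he1 f hf E hq hel lam
  | zero => rw [classInner_zero_left]; exact isIntegral_zero
  | add a b _ _ ha hb => rw [classInner_add_left]; exact ha.add hb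
  | smul c a _ ha =>
    rw [← Int.cast_smul_eq_zsmul ℂ, classInner_smul_left]
    exact (isIntegral_intCast _).mul ha

/-- Isaacs 8.19 in general form. -/
theorem section_eq_sum [Fintype (Cfsg.IrrCharacter G)] (hmn : Nat.card G = m * n)
    (hcop : Nat.Coprime m n) (he0 : m ∣ e)
    (he1 : e ≡ 1 [MOD n]) (f : G → ℂ) (hf : ∀ v, IsIntegral ℤ (f v))
    (hfc : Cfsg.IsClassFunction G f) :
    ∃ c : Cfsg.IrrCharacter G → ℂ, (∀ χ, IsIntegral ℤ (c χ)) ∧
      (fun x => (n : ℂ) * f (x ^ e)) = ∑ χ : Cfsg.IrrCharacter G, c χ • (χ : G → ℂ) := by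
  refine ⟨fun χ => Cfsg.classInner (fun x => (n : ℂ) * f (x ^ e)) χ, fun χ => ?_,
    classFunction_eq_sum (isClassFunction_section f hfc _ e)⟩
  show IsIntegral ℤ (Cfsg.classInner (fun x => (n : ℂ) * f (x ^ e)) χ)
  rw [← classInner_conj_symm]
  exact isIntegral_conj' (section_inner_isIntegral hmn hcop he0 he1 f hf hfc
    (IsIrrCharacter.isCharacter χ.2))

/-- the `n`-part of an element is `x ^ e` -/
theorem part_eq_pow (hmn : Nat.card G = m * n) (he0 : m ∣ e) (he1 : e ≡ 1 [MOD n]) {x u v : G}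
    (hx : x = u * v) (hc : Commute u v) (hu : Nat.Coprime (orderOf u) n)
    (hv : Nat.Coprime (orderOf v) m) : v = x ^ e := by
  rw [hx, hc.mul_pow, pow_e_of_coprime_n hmn he0 hu, pow_e_of_coprime_m hmn he1 hv, one_mul]

/-- existence of the decomposition -/
theorem exists_parts (hmn : Nat.card G = m * n) (hcop : Nat.Coprime m n) (he0 : m ∣ e)
    (he1 : e ≡ 1 [MOD n]) (x : G) :
    ∃ u : G, x = u * x ^ e ∧ Commute u (x ^ e) ∧ Nat.Coprime (orderOf u) n ∧
      Nat.Coprime (orderOf (x ^ e)) m := by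
  have hxo : x ^ (m * n) = 1 := by rw [← hmn]; exact pow_card_eq_one'
  refine ⟨x * (x ^ e)⁻¹, by group, ?_, ?_, ?_⟩
  · exact ((Commute.refl x).pow_right e).mul_left ((Commute.refl (x ^ e)).inv_left)
  · have h1 : (x * (x ^ e)⁻¹) ^ m = 1 := by
      have hc : Commute x (x ^ e)⁻¹ := ((Commute.refl x).pow_right e).inv_right
      rw [hc.mul_pow, inv_pow, ← pow_mul, mul_inv_eq_one]
      apply pow_eq_pow_iff_modEq.mpr
      have h2 : orderOf x ∣ m * n := orderOf_dvd_of_pow_eq_one hxo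
      apply Nat.ModEq.of_dvd h2
      have h3 : m * 1 ≡ m * e [MOD m * n] := (he1.symm).mul_left' m
      rw [mul_one] at h3
      rw [mul_comm e m]
      exact h3
    exact Nat.Coprime.coprime_dvd_left (orderOf_dvd_of_pow_eq_one h1) hcop
  · have h1 : (x ^ e) ^ n = 1 := by
      rw [← pow_mul]
      obtain ⟨k, rfl⟩ := he0
      rw [mul_right_comm, pow_mul, hxo, one_pow]
    exact Nat.Coprime.coprime_dvd_left (orderOf_dvd_of_pow_eq_one h1) hcop.symm

end main

end Cfsg.Agent.Lib.Helper13.SectionFn
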