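import Mathlib
import Cfsg.Agent.Lib.Helper13.Ito
import Cfsg.Agent.Lib.Helper26.GrpRes
import Cfsg.Agent.Lib.Helper6.Brauer
import Cfsg.Agent.S0867

set_option autoImplicit false
set_option linter.unusedSectionVars false

namespace Cfsg.Agent.Lib.Helper13

open Cfsg.Agent.Lib.Helper2 Cfsg.Agent.Lib.Lead
open scoped ComplexConjugate

theorem eq_zero_of_degree_zero {G : Type*} [Group G] {χ : G → ℂ} (hχ : Cfsg.IsCharacter G χ)
    (h : χ 1 = 0) : χ = 0 := by
  obtain ⟨n, ρ, rfl⟩ := hχ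
  rw [Representation.char_one] at h
  have hn : n = 0 := by
    have : Module.finrank ℂ (Fin n → ℂ) = 0 := by exact_mod_cast h
    simpa using this
  subst hn
  funext g
  simp only [Representation.character, Pi.zero_apply]
  have : ρ g = 0 := by
    ext v i
    exact i.elim0
  rw [this, map_zero]

theorem restrict_eq_of_degree_eq {G : Type*} [Group G] [Finite G] (N : Subgroup G) [Fintype N]
    {χ : G → ℂ} (hχ : Cfsg.IsCharacter G χ) {θ : N → ℂ} (hθ : Cfsg.IsIrrCharacter N θ)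
    (hcon : Cfsg.classInner (fun n : N => χ n) θ ≠ 0) (hdeg : χ 1 = θ 1) :
    (fun n : N => χ n) = θ := by
  have h1 := isCharacter_sub_of_constituent (IsCharacter.restrict N hχ) hθ hcon
  have h2 := eq_zero_of_degree_zero h1 (by
    simp only [Pi.sub_apply, Subgroup.coe_one]
    rw [hdeg, sub_self])
  exact sub_eq_zero.mp h2

theorem detOrder_pos {G : Type*} [Group G] [Finite G] {θ : G → ℂ} (hθ : Cfsg.IsCharacter G θ) :
    0 < Cfsg.detOrder θ := by
  obtain ⟨δ, hδ⟩ := exists_hom_detChar hθ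
  rw [Cfsg.detOrder, orderOf_pos_iff, isOfFinOrder_iff_pow_eq_one]
  refine ⟨Nat.card G, Nat.card_pos, ?_⟩
  funext g
  rw [hδ]
  simp only [Pi.pow_apply, Pi.one_apply]
  rw [← Units.val_pow_eq_pow_val, ← map_pow, pow_card_eq_one', map_one, Units.val_one]

theorem not_dvd_detOrder_pResidual {G : Type*} [Group G] [Finite G] (p : ℕ) [hp : Fact p.Prime]
    {θ : Cfsg.pResidual p G → ℂ} (hθ : Cfsg.IsCharacter (Cfsg.pResidual p G) θ) :
    ¬ p ∣ Cfsg.detOrder θ := by
  obtain ⟨δ, hδ⟩ := exists_hom_detChar hθ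
  rintro ⟨m, hm⟩
  have hpos := detOrder_pos hθ
  have hmpos : 0 < m := by
    rcases Nat.eq_zero_or_pos m with rfl | h
    · simp [hm] at hpos
    · exact h
  have hlt : m < Cfsg.detOrder θ := by
    rw [hm]
    have := hp.out.one_lt
    nlinarith
  have hne : (Cfsg.detChar θ) ^ m ≠ 1 := pow_ne_one_of_lt_orderOf hmpos.ne' hlt
  apply hne
  have ho : ∀ n, (δ n) ^ (p * m) = 1 := by
    intro n
    have h1 : (Cfsg.detChar θ) ^ (p * m) = 1 := by
      rw [← hm]
      exact pow_orderOf_eq_one _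
    have h2 := congrFun h1 n
    rw [hδ] at h2
    simp only [Pi.pow_apply, Pi.one_apply] at h2
    apply Units.ext
    rw [Units.val_pow_eq_pow_val, h2, Units.val_one]
  let K : Subgroup G := (((powMonoidHom m : ℂˣ →* ℂˣ).comp δ).ker).map (Subgroup.subtype _)
  have hK : Cfsg.pResidual p G ≤ K := by
    unfold Cfsg.pResidual
    rw [Subgroup.closure_le]
    intro g hg
    have hgN : g ∈ Cfsg.pResidual p G := Cfsg.Agent.Lib.Helper26.mem_pRes_of_coprime hg
    refine ⟨⟨g, hgN⟩, ?_, rfl⟩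
    show (δ ⟨g, hgN⟩) ^ m = 1
    have h1 : ((δ ⟨g, hgN⟩) ^ m) ^ p = 1 := by
      rw [← pow_mul, mul_comm]
      exact ho _
    have h2 : ((δ ⟨g, hgN⟩) ^ m) ^ orderOf g = 1 := by
      rw [← pow_mul, mul_comm, pow_mul, ← map_pow]
      have : (⟨g, hgN⟩ : Cfsg.pResidual p G) ^ orderOf g = 1 := by
        apply Subtype.ext
        simp [pow_orderOf_eq_one]
      rw [this, map_one, one_pow]
    have h3 : orderOf ((δ ⟨g, hgN⟩) ^ m) ∣ Nat.gcd (orderOf g) p :=
      Nat.dvd_gcd (orderOf_dvd_of_pow_eq_one h2) (orderOf_dvd_of_pow_eq_one h1)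
    have hg' : Nat.gcd (orderOf g) p = 1 := hg
    rw [hg', Nat.dvd_one, orderOf_eq_one_iff] at h3
    exact h3
  funext n
  rw [hδ]
  simp only [Pi.pow_apply, Pi.one_apply]
  obtain ⟨n', hn', hnn⟩ := hK n.2
  have : n' = n := Subtype.ext hnn
  subst this
  have h4 : (δ n') ^ m = 1 := hn'
  rw [← Units.val_pow_eq_pow_val, h4, Units.val_one]

/-- conjugation action on the irreducible characters of a normal subgroup -/
noncomputable def conjIrrPerm {G : Type*} [Group G] [Fintype G] (N : Subgroup G) [N.Normal] :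
    G →* Equiv.Perm (Cfsg.IrrCharacter N) where
  toFun g :=
    { toFun := fun θ => ⟨conjFun N g θ, IsIrrCharacter.conjFun N θ.2 g⟩
      invFun := fun θ => ⟨conjFun N g⁻¹ θ, IsIrrCharacter.conjFun N θ.2 g⁻¹⟩
      left_inv := by
        intro θ
        apply Subtype.ext
        show conjFun N g⁻¹ (conjFun N g θ) = θ
        rw [← conjFun_mul, inv_mul_cancel, conjFun_one]
      right_inv := by
        intro θ
        apply Subtype.ext
        show conjFun N g (conjFun N g⁻¹ θ) = θ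
        rw [← conjFun_mul, mul_inv_cancel, conjFun_one] }
  map_one' := by
    ext θ : 2
    show conjFun N 1 θ = θ
    rw [conjFun_one]
  map_mul' := by
    intro a b
    ext θ : 2
    show conjFun N (a * b) θ = conjFun N a (conjFun N b θ)
    rw [conjFun_mul]

theorem conjIrrPerm_apply {G : Type*} [Group G] [Fintype G] (N : Subgroup G) [N.Normal] (g : G)
    (θ : Cfsg.IrrCharacter N) : ((conjIrrPerm N g θ : Cfsg.IrrCharacter N) : N → ℂ) =
      conjFun N g θ := rfl


theorem conjFun_restrict {G : Type*} [Group G] (N : Subgroup G) [N.Normal] {χ : G → ℂ}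
    (hχ : Cfsg.IsClassFunction G χ) (g : G) :
    conjFun N g (fun n : N => χ n) = fun n : N => χ n := by
  funext n
  rw [conjFun_apply]
  have := hχ (n : G) g⁻¹
  simpa using this

theorem card_pResidual_modEq {G : Type*} [Group G] [Finite G] (p : ℕ) [hp : Fact p.Prime] :
    (Nat.card (Cfsg.pResidual p G) : ℤ) ≡
      (∑ᶠ χ ∈ {χ : Cfsg.IrrCharacter G | ¬ p ∣ Cfsg.charDegree (χ : G → ℂ) ∧
        ¬ p ∣ Cfsg.detOrder (χ : G → ℂ)}, (Cfsg.charDegree (χ : G → ℂ) : ℤ) ^ 2) [ZMOD p] := by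
  classical
  cases nonempty_fintype G
  set N := Cfsg.pResidual p G with hNdef
  have := finite_irr (G := N)
  cases nonempty_fintype (Cfsg.IrrCharacter N)
  obtain ⟨k, hk⟩ := IsPGroup.iff_card.mp
    (Cfsg.Agent.Lib.Helper26.isPGroup_quotient_pRes (p := p) (G := G))
  have hk' : N.index = p ^ k := hk
  obtain ⟨S⟩ : Nonempty (Sylow p G) := inferInstance
  set A : Set (Cfsg.IrrCharacter G) := {χ : Cfsg.IrrCharacter G |
    ¬ p ∣ Cfsg.charDegree (χ : G → ℂ) ∧ ¬ p ∣ Cfsg.detOrder (χ : G → ℂ)} with hA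
  let B : Set (Cfsg.IrrCharacter N) := {θ | ¬ p ∣ Cfsg.charDegree (θ : N → ℂ) ∧
    ∀ g : G, conjFun N g (θ : N → ℂ) = θ}
  choose r hr using fun χ : Cfsg.IrrCharacter G => Cfsg.Agent.Lib.Helper6.exists_constituent N χ.2
  have key : ∀ χ ∈ A, (fun n : N => (χ : G → ℂ) n) = r χ := by
    intro χ hχ
    obtain ⟨e, he1, he2⟩ := ratio_dvd_index N χ.2 (r χ).2 (hr χ)
    rw [hk'] at he2
    obtain ⟨j, -, hj⟩ := (Nat.dvd_prime_pow hp.out).mp he2
    have he : e = 1 := by
      rcases Nat.eq_zero_or_pos j with rfl | hjpos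
      · simpa using hj
      · exfalso
        apply hχ.1
        have h2 : Cfsg.charDegree (χ : G → ℂ) = e * Cfsg.charDegree (r χ : N → ℂ) := by
          apply charDegree_eq_of_cast
          rw [he1, ← Cfsg.Agent.Lib.Helper24.charDegree_cast (IsIrrCharacter.isCharacter (r χ).2)]
          push_cast
          rfl
        rw [h2, hj]
        exact Dvd.dvd.mul_right (dvd_pow_self p hjpos.ne') _
    rw [he, Nat.cast_one, one_mul] at he1
    exact restrict_eq_of_degree_eq N (IsIrrCharacter.isCharacter χ.2) (r χ).2 (hr χ) he1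
  have hdeg : ∀ χ ∈ A, Cfsg.charDegree (r χ : N → ℂ) = Cfsg.charDegree (χ : G → ℂ) := by
    intro χ hχ
    rw [← key χ hχ]
    rfl
  have hS0867 : ∀ θ ∈ B, ∃ χ : G → ℂ, (Cfsg.IsIrrCharacter G χ ∧ (∀ n : N, χ n = (θ : N → ℂ) n) ∧
      Cfsg.detOrder χ = Cfsg.detOrder (θ : N → ℂ)) ∧ ∀ χ' : G → ℂ, Cfsg.IsIrrCharacter G χ' →
      (∀ n : N, χ' n = (θ : N → ℂ) n) → Nat.Coprime N.index (Cfsg.detOrder χ') → χ' = χ := by
    intro θ hθ
    apply Cfsg.Agent.S0867.result N θ θ.2 (fun g => (stmtInv_iff N (θ : N → ℂ) g).mpr (hθ.2 g))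
      (Cfsg.charDegree (θ : N → ℂ))
      (Cfsg.Agent.Lib.Helper24.charDegree_cast (IsIrrCharacter.isCharacter θ.2)).symm
    rw [hk']
    apply Nat.Coprime.pow_left
    rw [Nat.Prime.coprime_iff_not_dvd hp.out, Nat.Prime.dvd_mul hp.out]
    rintro (h | h)
    · exact not_dvd_detOrder_pResidual p (IsIrrCharacter.isCharacter θ.2) h
    · exact hθ.1 h
  have hmaps : ∀ χ ∈ A, r χ ∈ B := by
    intro χ hχ
    refine ⟨by rw [hdeg χ hχ]; exact hχ.1, fun g => ?_⟩
    rw [← key χ hχ]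
    exact conjFun_restrict N (IsCharacter.isClassFunction (IsIrrCharacter.isCharacter χ.2)) g
  have hbij : Set.BijOn r A B := by
    refine ⟨hmaps, ?_, ?_⟩
    · intro χ hχ χ' hχ' heq
      obtain ⟨χ₀, -, huniq⟩ := hS0867 (r χ) (hmaps χ hχ)
      have hc : ∀ χ ∈ A, Nat.Coprime N.index (Cfsg.detOrder (χ : G → ℂ)) := by
        intro χ hχ
        rw [hk']
        apply Nat.Coprime.pow_left
        rw [Nat.Prime.coprime_iff_not_dvd hp.out]
        exact hχ.2
      apply Subtype.ext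
      rw [huniq χ χ.2 (fun n => congrFun (key χ hχ) n) (hc χ hχ),
        huniq χ' χ'.2 (fun n => by rw [heq]; exact congrFun (key χ' hχ') n) (hc χ' hχ')]
    · intro θ hθ
      obtain ⟨χ₀, ⟨hχ₀, hres, hdet⟩, -⟩ := hS0867 θ hθ
      have hmem : (⟨χ₀, hχ₀⟩ : Cfsg.IrrCharacter G) ∈ A := by
        refine ⟨?_, ?_⟩
        · have : Cfsg.charDegree χ₀ = Cfsg.charDegree (θ : N → ℂ) := by
            have h1 := hres 1
            simp only [Cfsg.charDegree]
            rw [← h1]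
            rfl
          show ¬ p ∣ Cfsg.charDegree χ₀
          rw [this]
          exact hθ.1
        · show ¬ p ∣ Cfsg.detOrder χ₀
          rw [hdet]
          exact not_dvd_detOrder_pResidual p (IsIrrCharacter.isCharacter θ.2)
      refine ⟨⟨χ₀, hχ₀⟩, hmem, ?_⟩
      apply Subtype.ext
      rw [← key _ hmem]
      exact funext hres
  have h1 : (∑ᶠ χ ∈ A, (Cfsg.charDegree (χ : G → ℂ) : ℤ) ^ 2) =
      ∑ᶠ θ ∈ B, (Cfsg.charDegree (θ : N → ℂ) : ℤ) ^ 2 :=
    finsum_mem_eq_of_bijOn r hbij (fun χ hχ => by rw [hdeg χ hχ])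
  rw [h1, finsum_mem_def, finsum_eq_sum_of_fintype]
  obtain ⟨s, ⟨z, hz⟩, hsum⟩ := Cfsg.Agent.Lib.Helper6.sum_eq_sum_fixed_add S.2
    ((conjIrrPerm N).comp (S : Subgroup G).subtype)
    (fun θ : Cfsg.IrrCharacter N => ((θ : N → ℂ) 1) ^ 2) (by
      intro k θ
      show (conjFun N (k : G) (θ : N → ℂ) 1) ^ 2 = _
      rw [conjFun_apply]
      congr 3
      simp
      rfl) (Int.castAddHom ℂ).range (by
      intro θ
      refine ⟨(Cfsg.charDegree (θ : N → ℂ) : ℤ) ^ 2, ?_⟩
      rw [← Cfsg.Agent.Lib.Helper24.charDegree_cast (IsIrrCharacter.isCharacter θ.2)]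
      simp)
  have hfix : ∀ θ : Cfsg.IrrCharacter N,
      (∀ k : S, ((conjIrrPerm N).comp (S : Subgroup G).subtype) k θ = θ) ↔
        ∀ g : G, conjFun N g (θ : N → ℂ) = θ := by
    intro θ
    constructor
    · intro h g
      have h2 : N ⊔ (S : Subgroup G) ≤ inertia N (θ : N → ℂ) := by
        rw [sup_le_iff]
        refine ⟨le_inertia N θ.2 _ (fun g => mem_inertia N _ g), ?_⟩
        intro s hs
        exact congrArg Subtype.val (h ⟨s, hs⟩)
      rw [Cfsg.Agent.Lib.Helper26.pRes_sup_sylow S] at h2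
      exact h2 (Subgroup.mem_top g)
    · intro h k
      apply Subtype.ext
      exact h k
  rw [sum_degree_sq] at hsum
  have hint : (Nat.card N : ℤ) = (∑ θ : Cfsg.IrrCharacter N,
      if (∀ k : S, ((conjIrrPerm N).comp (S : Subgroup G).subtype) k θ = θ) then
        (Cfsg.charDegree (θ : N → ℂ) : ℤ) ^ 2 else 0) + p * z := by
    have : ((Nat.card N : ℤ) : ℂ) = (((∑ θ : Cfsg.IrrCharacter N,
      if (∀ k : S, ((conjIrrPerm N).comp (S : Subgroup G).subtype) k θ = θ) then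
        (Cfsg.charDegree (θ : N → ℂ) : ℤ) ^ 2 else 0) + p * z : ℤ) : ℂ) := by
      push_cast
      rw [hsum, ← hz]
      congr 1
      refine Finset.sum_congr rfl fun θ _ => ?_
      rw [← Cfsg.Agent.Lib.Helper24.charDegree_cast (IsIrrCharacter.isCharacter θ.2)]
      congr
    exact_mod_cast this
  rw [hint]
  have h3 : ((∑ θ : Cfsg.IrrCharacter N,
      if (∀ k : S, ((conjIrrPerm N).comp (S : Subgroup G).subtype) k θ = θ) then
        (Cfsg.charDegree (θ : N → ℂ) : ℤ) ^ 2 else 0) + p * z) ≡ (∑ θ : Cfsg.IrrCharacter N,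
      if (∀ k : S, ((conjIrrPerm N).comp (S : Subgroup G).subtype) k θ = θ) then
        (Cfsg.charDegree (θ : N → ℂ) : ℤ) ^ 2 else 0) [ZMOD p] := by
    simp [Int.ModEq]
  refine h3.trans ?_
  apply Int.ModEq.sum
  intro θ _
  rw [Set.indicator_apply]
  by_cases hf : ∀ k : S, ((conjIrrPerm N).comp (S : Subgroup G).subtype) k θ = θ
  · rw [if_pos hf]
    by_cases hd : p ∣ Cfsg.charDegree (θ : N → ℂ)
    · rw [if_neg (fun h : θ ∈ B => h.1 hd)]
      rw [Int.modEq_zero_iff_dvd]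
      apply Dvd.dvd.pow _ two_ne_zero
      exact_mod_cast hd
    · rw [if_pos (show θ ∈ B from ⟨hd, (hfix θ).mp hf⟩)]
  · rw [if_neg hf, if_neg (fun h : θ ∈ B => hf ((hfix θ).mpr h.2))]

end Cfsg.Agent.Lib.Helper13
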