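import Mathlib
import Cfsg.Agent.Lib.Helper13.Thompson

set_option autoImplicit false
set_option linter.unusedSectionVars false

namespace Cfsg.Agent.Lib.Helper13

open Cfsg.Agent.Lib.Helper2 Cfsg.Agent.Lib.Lead
open scoped ComplexConjugate

theorem detChar_of_linear {G : Type*} [Group G] [Finite G] {χ : G → ℂ}
    (hχ : Cfsg.IsCharacter G χ) (h1 : χ 1 = 1) : Cfsg.detChar χ = χ := by
  obtain ⟨n, ρ, rfl⟩ := hχ
  rw [Representation.char_one] at h1
  have hn : n = 1 := by
    have : Module.finrank ℂ (Fin n → ℂ) = 1 := by exact_mod_cast h1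
    simpa using this
  subst hn
  funext g
  rw [detChar_eq_of_rep]
  simp only [Representation.character]
  rw [← LinearMap.det_toMatrix', Matrix.det_fin_one,
    LinearMap.trace_eq_matrix_trace ℂ (Pi.basisFun ℂ (Fin 1)), Matrix.trace_fin_one,
    LinearMap.toMatrix_eq_toMatrix']

/-- linear characters as functions -/
def homToFun (G : Type*) [Group G] : (G →* ℂˣ) →* (G → ℂ) where
  toFun lam := fun g => (lam g : ℂ)
  map_one' := by
    funext g
    simp
  map_mul' := by
    intro a b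
    funext g
    simp

theorem homToFun_injective (G : Type*) [Group G] : Function.Injective (homToFun G) := by
  intro a b h
  ext g
  exact congrFun h g

theorem finite_irr' (G : Type*) [Group G] [Finite G] : Finite (Cfsg.IrrCharacter G) := by
  cases nonempty_fintype G
  exact finite_irr (G := G)

theorem finite_hom (G : Type*) [Group G] [Finite G] : Finite (G →* ℂˣ) := by
  cases nonempty_fintype G
  have := finite_irr (G := G)
  apply Finite.of_injective (fun lam : G →* ℂˣ =>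
    (⟨homToFun G lam, isIrrCharacter_of_hom lam⟩ : Cfsg.IrrCharacter G))
  intro a b h
  exact homToFun_injective G (congrArg Subtype.val h)

theorem not_dvd_ncard_linear {G : Type*} [Group G] [Finite G] (p : ℕ) [hp : Fact p.Prime] :
    ¬ p ∣ {χ : Cfsg.IrrCharacter G | (χ : G → ℂ) 1 = 1 ∧
      ¬ p ∣ Cfsg.detOrder (χ : G → ℂ)}.ncard := by
  classical
  have := finite_hom G
  set m := ordCompl[p] (Nat.card G) with hm
  have hpm : ¬ p ∣ m := Nat.not_dvd_ordCompl hp.out Nat.card_pos.ne'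
  let 𝒜 : Subgroup (G →* ℂˣ) := (powMonoidHom m : (G →* ℂˣ) →* (G →* ℂˣ)).ker
  have hmem : ∀ lam : G →* ℂˣ, lam ∈ 𝒜 ↔ ¬ p ∣ orderOf lam := by
    intro lam
    have h0 : lam ∈ 𝒜 ↔ orderOf lam ∣ m := by
      rw [orderOf_dvd_iff_pow_eq_one]
      exact Iff.rfl
    rw [h0]
    constructor
    · intro h hd
      exact hpm (hd.trans h)
    · intro h
      have h1 : orderOf lam ∣ Nat.card G := by
        apply orderOf_dvd_of_pow_eq_one
        ext g
        rw [MonoidHom.pow_apply, ← map_pow, pow_card_eq_one', map_one, MonoidHom.one_apply]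
      rw [← Nat.ordProj_mul_ordCompl_eq_self (Nat.card G) p] at h1
      apply Nat.Coprime.dvd_of_dvd_mul_left _ h1
      apply Nat.Coprime.pow_right
      exact ((Nat.Prime.coprime_iff_not_dvd hp.out).mpr h).symm
  have hcard : ¬ p ∣ Nat.card 𝒜 := by
    intro hd
    obtain ⟨x, hx⟩ := exists_prime_orderOf_dvd_card' p hd
    have h1 : ¬ p ∣ orderOf (x : G →* ℂˣ) := (hmem x).mp x.2
    rw [Subgroup.orderOf_coe, hx] at h1
    exact h1 dvd_rfl
  have hdet : ∀ lam : G →* ℂˣ, Cfsg.detOrder (homToFun G lam) = orderOf lam := by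
    intro lam
    show orderOf (Cfsg.detChar (fun g => (lam g : ℂ))) = _
    rw [detChar_of_linear (IsIrrCharacter.isCharacter (isIrrCharacter_of_hom lam))
      (by simp)]
    exact orderOf_injective (homToFun G) (homToFun_injective G) lam
  have heq : {χ : Cfsg.IrrCharacter G | (χ : G → ℂ) 1 = 1 ∧
      ¬ p ∣ Cfsg.detOrder (χ : G → ℂ)}.ncard = Nat.card 𝒜 := by
    rw [← Nat.card_coe_set_eq]
    symm
    apply Nat.card_congr
    refine Equiv.ofBijective (fun lam => ⟨⟨homToFun G lam, isIrrCharacter_of_hom lam.1⟩, ?_, ?_⟩)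
      ⟨?_, ?_⟩
    · simp [homToFun]
    · show ¬ p ∣ Cfsg.detOrder (homToFun G lam)
      rw [hdet]
      exact (hmem lam).mp lam.2
    · intro a b h
      apply Subtype.ext
      apply homToFun_injective G
      exact congrArg (fun x => (x.1 : G → ℂ)) h
    · rintro ⟨χ, h1, h2⟩
      obtain ⟨lam, hlam⟩ := exists_hom_of_degree_one (IsIrrCharacter.isCharacter χ.2) h1
      have hlam' : (χ : G → ℂ) = homToFun G lam := hlam
      refine ⟨⟨lam, ?_⟩, ?_⟩
      · rw [hmem, ← hdet, ← hlam']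
        exact h2
      · apply Subtype.ext
        apply Subtype.ext
        exact hlam'.symm
  rw [heq]
  exact hcard

/-- **Thompson**: if `p` divides all nonlinear degrees, `O^p(G)` is a `p'`-group -/
theorem thompson_npc {G : Type*} [Group G] [Finite G] (p : ℕ) [hp : Fact p.Prime]
    (hdeg : ∀ χ : Cfsg.IrrCharacter G, Cfsg.charDegree (χ : G → ℂ) ≠ 1 →
      p ∣ Cfsg.charDegree (χ : G → ℂ)) :
    ∃ N : Subgroup G, N.Normal ∧ (Nat.card N).Coprime p ∧ ∃ k : ℕ, N.index = p ^ k := by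
  classical
  refine ⟨Cfsg.pResidual p G, inferInstance, ?_, IsPGroup.iff_card.mp
    (Cfsg.Agent.Lib.Helper26.isPGroup_quotient_pRes (p := p) (G := G))⟩
  have h1 := card_pResidual_modEq (G := G) p
  have hset : {χ : Cfsg.IrrCharacter G | ¬ p ∣ Cfsg.charDegree (χ : G → ℂ) ∧
        ¬ p ∣ Cfsg.detOrder (χ : G → ℂ)} = {χ : Cfsg.IrrCharacter G | (χ : G → ℂ) 1 = 1 ∧
      ¬ p ∣ Cfsg.detOrder (χ : G → ℂ)} := by
    ext χ
    simp only [Set.mem_ofPred_eq]
    apply and_congr_left
    intro _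
    constructor
    · intro h
      have h2 : Cfsg.charDegree (χ : G → ℂ) = 1 := by
        by_contra hne
        exact h (hdeg χ hne)
      rw [← Cfsg.Agent.Lib.Helper24.charDegree_cast (IsIrrCharacter.isCharacter χ.2), h2]
      simp
    · intro h
      rw [charDegree_eq_of_cast (n := 1) (by simpa using h)]
      exact hp.out.one_lt.ne' ∘ Nat.dvd_one.mp
  rw [hset] at h1
  have h2 : (∑ᶠ χ ∈ {χ : Cfsg.IrrCharacter G | (χ : G → ℂ) 1 = 1 ∧
      ¬ p ∣ Cfsg.detOrder (χ : G → ℂ)}, (Cfsg.charDegree (χ : G → ℂ) : ℤ) ^ 2) =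
      ({χ : Cfsg.IrrCharacter G | (χ : G → ℂ) 1 = 1 ∧
      ¬ p ∣ Cfsg.detOrder (χ : G → ℂ)}.ncard : ℤ) := by
    have h3 : (∑ᶠ χ ∈ {χ : Cfsg.IrrCharacter G | (χ : G → ℂ) 1 = 1 ∧
      ¬ p ∣ Cfsg.detOrder (χ : G → ℂ)}, (Cfsg.charDegree (χ : G → ℂ) : ℤ) ^ 2) =
      ∑ᶠ χ ∈ {χ : Cfsg.IrrCharacter G | (χ : G → ℂ) 1 = 1 ∧
      ¬ p ∣ Cfsg.detOrder (χ : G → ℂ)}, (1 : ℤ) := by
      apply finsum_mem_congr rfl
      intro χ hχ
      rw [charDegree_eq_of_cast (n := 1) (by simpa using hχ.1)]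
      simp
    have := finite_irr' G
    rw [h3, finsum_mem_eq_finite_toFinset_sum _ (Set.toFinite _), Finset.sum_const,
      Set.ncard_eq_toFinset_card _ (Set.toFinite _)]
    simp
  rw [h2] at h1
  apply Nat.Coprime.symm
  rw [Nat.Prime.coprime_iff_not_dvd hp.out]
  intro hd
  apply not_dvd_ncard_linear (G := G) p
  have h4 : (Nat.card (Cfsg.pResidual p G) : ℤ) ≡ 0 [ZMOD p] := by
    rw [Int.modEq_zero_iff_dvd]
    exact_mod_cast hd
  have h5 := (h1.symm.trans h4)
  rw [Int.modEq_zero_iff_dvd] at h5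
  exact_mod_cast h5

end Cfsg.Agent.Lib.Helper13
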